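import Mathlib
import Groth.Agent.Lib.Helper5.FibStalk.AcycBC

/-!
# K-flatness over a base ring of `M ⊗_B E` (helper5)
-/
set_option autoImplicit false
set_option linter.unusedSectionVars false
set_option linter.unusedVariables false
set_option linter.style.haveILetI false
universe u
open CategoryTheory CategoryTheory.Limits MonoidalCategory
attribute [local instance] HasDerivedCategory.standard

namespace Groth.Agent.Lib.Helper5.TwBC

open Groth.Agent.Lib.Helper5.TBC Groth.Agent.Lib.Helper5.KFlat Groth.Agent.Lib.Helper5.KProj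
open Groth.Agent.Lib.Helper5.DTenLib Groth.Agent.Lib.Helper5.TensorAmp
open Groth.Agent.Helper5.TorAmp Groth.Agent.Helper1.TorL Groth.Agent.Helper5.FlatBC
open Groth.Agent.Helper5.FlatAcyc Groth.Agent.Lib.Helper5.KSixLT Groth.Agent.Lib.Helper5.NilTor
open DTen _root_.Helper5.Gen

variable {A B : Type u} [CommRing A] [CommRing B] (φ : A →+* B)

/-- if `M` is K-flat over `B` and `E` is K-flat over `A`, then `M ⊗_B E` is K-flat over `A` -/
theorem isKFlat_resCx_tensor (M E : DRing.Cx B) (hM : DRing.IsKFlat B M)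
    (hE : DRing.IsKFlat A ((resCx φ).obj E)) : DRing.IsKFlat A ((resCx φ).obj (M ⊗ E)) := by
  intro Q hQ i
  have e0 : Q ⊗ (resCx φ).obj (M ⊗ E) ≅ (resCx φ).obj ((extCx φ).obj Q ⊗ (M ⊗ E)) :=
    asIso (pf φ Q (M ⊗ E))
  refine IsZero.of_iso ?_ ((HomologicalComplex.homologyFunctor _ _ i).mapIso e0)
  change IsZero (((resCx φ).obj ((extCx φ).obj Q ⊗ (M ⊗ E))).homology i)
  rw [isZero_homology_resCx_iff]
  have h1 : ∀ i, IsZero (((extCx φ).obj Q ⊗ E).homology i) := by
    intro i
    rw [← isZero_homology_resCx_iff φ]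
    exact IsZero.of_iso (hE Q hQ i)
      ((HomologicalComplex.homologyFunctor _ _ i).mapIso (asIso (pf φ Q E)).symm)
  have h2 := hM ((extCx φ).obj Q ⊗ E) h1 i
  let e : (extCx φ).obj Q ⊗ (M ⊗ E) ≅ ((extCx φ).obj Q ⊗ E) ⊗ M :=
    whiskerLeftIso ((extCx φ).obj Q) (braidCx M E) ≪≫ (α_ ((extCx φ).obj Q) E M).symm
  exact IsZero.of_iso h2 ((HomologicalComplex.homologyFunctor _ _ i).mapIso e)

/-- a module flat over `A` in degree `0` is K-flat over `A` -/
theorem isKFlat_resCx_single (P : ModuleCat.{u} B)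
    (hP : Module.Flat A ((ModuleCat.restrictScalars φ).obj P)) :
    DRing.IsKFlat A ((resCx φ).obj (S P)) := by
  refine isKFlat_of_concentrated _ 0 (fun n hn => ?_) ?_
  · exact (ModuleCat.restrictScalars φ).map_isZero (isZero_S_X P n hn)
  · exact Groth.Agent.Lib.Helper5.KFlat.flat_of_iso ((ModuleCat.restrictScalars φ).mapIso
      (HomologicalComplex.singleObjXSelf (ComplexShape.up ℤ) 0 P)).symm hP

end Groth.Agent.Lib.Helper5.TwBC
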