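import Mathlib
import Groth.Agent.Lib.Helper5.ProjF.DeltaNat

/-!
# `f^* (A ⊗ B) ≅ f^* A ⊗ f^* B` is compatible with composition of pullbacks (helper5)
-/
set_option autoImplicit false
set_option linter.unusedSectionVars false
set_option linter.unusedVariables false
universe u
open CategoryTheory CategoryTheory.Limits MonoidalCategory Opposite TopologicalSpace
  AlgebraicGeometry
open Groth.Agent.Helper1 Groth.Agent.Helper1.TmulLib Groth.Agent.Helper1.QcCech

namespace Groth.Agent.Lib.Helper5.TwBC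

open Groth.Agent.Lib.Helper5.ProjF

variable {X₂ X₁ X₀ : Scheme.{u}} (a : X₂ ⟶ X₁) (b : X₁ ⟶ X₀)

/-- the unit of the composite pullback, through `pullbackComp` -/
lemma pullbackComp_inv_unit (A : X₀.Modules) :
    ppUnit (a ≫ b) A ≫ (Scheme.Modules.pushforward (a ≫ b)).map
        ((Scheme.Modules.pullbackComp a b).inv.app A) =
      (ppUnit b A ≫ (Scheme.Modules.pushforward b).map
        (ppUnit a ((Scheme.Modules.pullback b).obj A))) ≫
        (Scheme.Modules.pushforwardComp a b).hom.app _ := by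
  have h := unit_conjugateEquiv
    ((Scheme.Modules.pullbackPushforwardAdjunction b).comp
      (Scheme.Modules.pullbackPushforwardAdjunction a))
    (Scheme.Modules.pullbackPushforwardAdjunction (a ≫ b))
    (Scheme.Modules.pullbackComp a b).inv A
  rw [Scheme.Modules.conjugateEquiv_pullbackComp_inv, Adjunction.comp_unit_app] at h
  exact h.symm

lemma pullbackComp_inv_unit_app (A : X₀.Modules) (U : X₀.Opens) (m : Γ(A, U)) :
    ((Scheme.Modules.pullbackComp a b).inv.app A).app ((a ≫ b) ⁻¹ᵁ U)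
        ((ppUnit (a ≫ b) A).app U m) =
      (ppUnit a ((Scheme.Modules.pullback b).obj A)).app (b ⁻¹ᵁ U) ((ppUnit b A).app U m) := by
  have h := congrArg (fun φ => (φ.app U).hom m) (pullbackComp_inv_unit a b A)
  exact h

/-- **compatibility of `deltaMap` with composition** -/
theorem deltaMap_comp (A B : X₀.Modules) :
    (Scheme.Modules.pullbackComp a b).inv.app ((DCoh.tensorBi.obj A).obj B) ≫
        (Scheme.Modules.pullback a).map (deltaMap b A B) ≫
        deltaMap a ((Scheme.Modules.pullback b).obj A) ((Scheme.Modules.pullback b).obj B) =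
      deltaMap (a ≫ b) A B ≫
        (DCoh.tensorBi.map ((Scheme.Modules.pullbackComp a b).inv.app A)).app _ ≫
        (DCoh.tensorBi.obj _).map ((Scheme.Modules.pullbackComp a b).inv.app B) := by
  apply ((Scheme.Modules.pullbackPushforwardAdjunction (a ≫ b)).homEquiv _ _).injective
  rw [Adjunction.homEquiv_unit, Adjunction.homEquiv_unit]
  apply tensor_hom_ext
  intro U m n
  -- right hand side
  have r1 := deltaMap_unit_tm (a ≫ b) A B U m n
  have r2 := tensorBi_map_app_tm ((Scheme.Modules.pullbackComp a b).inv.app A)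
    ((Scheme.Modules.pullback (a ≫ b)).obj B) ((a ≫ b) ⁻¹ᵁ U)
    ((ppUnit (a ≫ b) A).app U m) ((ppUnit (a ≫ b) B).app U n)
  have r3 := tensorBi_obj_map_tm ((Scheme.Modules.pullback a).obj ((Scheme.Modules.pullback b).obj A))
    ((Scheme.Modules.pullbackComp a b).inv.app B) ((a ≫ b) ⁻¹ᵁ U)
    (((Scheme.Modules.pullbackComp a b).inv.app A).app ((a ≫ b) ⁻¹ᵁ U)
      ((ppUnit (a ≫ b) A).app U m)) ((ppUnit (a ≫ b) B).app U n)
  have r4 := pullbackComp_inv_unit_app a b A U m
  have r5 := pullbackComp_inv_unit_app a b B U n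
  -- left hand side
  have l1 := pullbackComp_inv_unit_app a b ((DCoh.tensorBi.obj A).obj B) U (tm A B U m n)
  have l2 := ppUnit_naturality_app a (deltaMap b A B) (b ⁻¹ᵁ U)
    ((ppUnit b ((DCoh.tensorBi.obj A).obj B)).app U (tm A B U m n))
  have l3 := deltaMap_unit_tm b A B U m n
  have l4 := deltaMap_unit_tm a ((Scheme.Modules.pullback b).obj A)
    ((Scheme.Modules.pullback b).obj B) (b ⁻¹ᵁ U) ((ppUnit b A).app U m) ((ppUnit b B).app U n)
  have L : (deltaMap a ((Scheme.Modules.pullback b).obj A) ((Scheme.Modules.pullback b).obj B)).app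
      ((a ≫ b) ⁻¹ᵁ U)
      (((Scheme.Modules.pullback a).map (deltaMap b A B)).app ((a ≫ b) ⁻¹ᵁ U)
        (((Scheme.Modules.pullbackComp a b).inv.app ((DCoh.tensorBi.obj A).obj B)).app
          ((a ≫ b) ⁻¹ᵁ U) ((ppUnit (a ≫ b) ((DCoh.tensorBi.obj A).obj B)).app U (tm A B U m n)))) =
      tm (pb a (pb b A)) (pb a (pb b B)) (a ⁻¹ᵁ (b ⁻¹ᵁ U))
        ((ppUnit a (pb b A)).app (b ⁻¹ᵁ U) ((ppUnit b A).app U m))
        ((ppUnit a (pb b B)).app (b ⁻¹ᵁ U) ((ppUnit b B).app U n)) :=
    (congrArg (fun t => (deltaMap a ((Scheme.Modules.pullback b).obj A)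
        ((Scheme.Modules.pullback b).obj B)).app ((a ≫ b) ⁻¹ᵁ U)
        (((Scheme.Modules.pullback a).map (deltaMap b A B)).app ((a ≫ b) ⁻¹ᵁ U) t)) l1).trans
      ((congrArg (fun t => (deltaMap a ((Scheme.Modules.pullback b).obj A)
        ((Scheme.Modules.pullback b).obj B)).app ((a ≫ b) ⁻¹ᵁ U) t) l2.symm).trans
      ((congrArg (fun t => (deltaMap a ((Scheme.Modules.pullback b).obj A)
        ((Scheme.Modules.pullback b).obj B)).app ((a ≫ b) ⁻¹ᵁ U)
        ((ppUnit a _).app (b ⁻¹ᵁ U) t)) l3).trans l4))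
  have R : ((DCoh.tensorBi.obj _).map ((Scheme.Modules.pullbackComp a b).inv.app B)).app
      ((a ≫ b) ⁻¹ᵁ U)
      (((DCoh.tensorBi.map ((Scheme.Modules.pullbackComp a b).inv.app A)).app _).app
        ((a ≫ b) ⁻¹ᵁ U)
        ((deltaMap (a ≫ b) A B).app ((a ≫ b) ⁻¹ᵁ U)
          ((ppUnit (a ≫ b) ((DCoh.tensorBi.obj A).obj B)).app U (tm A B U m n)))) =
      tm (pb a (pb b A)) (pb a (pb b B)) (a ⁻¹ᵁ (b ⁻¹ᵁ U))
        ((ppUnit a (pb b A)).app (b ⁻¹ᵁ U) ((ppUnit b A).app U m))
        ((ppUnit a (pb b B)).app (b ⁻¹ᵁ U) ((ppUnit b B).app U n)) :=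
    (congrArg (fun t => ((DCoh.tensorBi.obj _).map
        ((Scheme.Modules.pullbackComp a b).inv.app B)).app ((a ≫ b) ⁻¹ᵁ U)
        (((DCoh.tensorBi.map ((Scheme.Modules.pullbackComp a b).inv.app A)).app _).app
          ((a ≫ b) ⁻¹ᵁ U) t)) r1).trans
      ((congrArg (fun t => ((DCoh.tensorBi.obj _).map
        ((Scheme.Modules.pullbackComp a b).inv.app B)).app ((a ≫ b) ⁻¹ᵁ U) t) r2).trans
      (r3.trans (by rw [r4, r5]; rfl)))
  exact L.trans R.symm

end Groth.Agent.Lib.Helper5.TwBC
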