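import Mathlib
import Groth.Agent.Lib.Helper5.ProjFX.Mate
import Groth.Agent.Lib.Helper5.BC.LTenCongr
import Groth.Agent.Lib.Helper5.BC.Defs
import Groth.Agent.Lib.Helper5.TwBC.TotNat2

/-!
# The comparison `Lf^* (M ⊗^L L) ⟶ Lf^* M ⊗^L f^* L` for an arbitrary complex `L` (helper5)

The pullback `f^* L` is the underived, termwise one; the comparison is an isomorphism when `L` is
K-flat or `f` is flat, but not in general.
-/
set_option autoImplicit false
set_option linter.unusedSectionVars false
set_option linter.unusedVariables false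
set_option linter.style.haveILetI false
universe u
open CategoryTheory CategoryTheory.Limits AlgebraicGeometry
open Groth.Agent.Lib.Helper5.DerQ
attribute [local instance] HasDerivedCategory.standard

namespace Groth.Agent.Lib.Helper5.TwBC

open Groth.Agent.Lib.Helper5.PullTenNat Groth.Agent.Lib.Helper5.ProjF
  Groth.Agent.Lib.Helper5.ProjF3 Groth.Agent.Lib.Helper5.ProjFX
  Groth.Agent.Lib.Helper5.LTenCongr Groth.Agent.Lib.Helper5.AssocD

/-- all derived tensor products exist -/
instance instHasLTensorCx {X : Scheme.{u}} (E : CochainComplex X.Modules ℤ) :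
    DCoh.HasLTensorCx E := Groth.Agent.Lib.Helper5.LTenAll.hasLTensorCx E

variable {X Y : Scheme.{u}} (f : X ⟶ Y) (L : CochainComplex Y.Modules ℤ)

/-- the class of quasi-isomorphisms -/
abbrev WQ (Y : Scheme.{u}) : MorphismProperty (CochainComplex Y.Modules ℤ) :=
  HomologicalComplex.quasiIso Y.Modules (ComplexShape.up ℤ)

/-- naturality of `deltaCxIso` in the second variable -/
lemma deltaCxIso_naturality₂ (J : CochainComplex Y.Modules ℤ) {L L' : CochainComplex Y.Modules ℤ}
    (q : L ⟶ L') :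
    (pC f).map ((DCoh.tensorCx.obj J).map q) ≫ (deltaCxIso f J L').hom =
      (deltaCxIso f J L).hom ≫ (DCoh.tensorCx.obj ((pC f).obj J)).map ((pC f).map q) :=
  Groth.Agent.Lib.Helper5.TotFun.totIso_naturality₂ DCoh.tensorBi DCoh.tensorBi
    (Scheme.Modules.pullback f) (Scheme.Modules.pullback f) (Scheme.Modules.pullback f)
    (deltaIso f)
    (fun g B => deltaMap_naturality_left f g B) (fun A _ _ h => deltaMap_naturality_right f A h)
    J q

/-- **the comparison** `Lf^* (- ⊗^L L) ⟶ Lf^* (-) ⊗^L f^* L` -/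
noncomputable def eta : G₁ f L ⟶ G₂ f L :=
  haveI := isLeft₂ f L
  (G₂ f L).leftDerivedLift (γ₂ f L) (WQ Y) (G₁ f L) (γ₁ f L ≫ (στ f L).hom)

/-- the characterization of `eta` on complexes -/
lemma eta_fac (J : CochainComplex Y.Modules ℤ) :
    (eta f L).app (DerivedCategory.Q.obj J) ≫ (γ₂ f L).app J =
      (γ₁ f L).app J ≫ DerivedCategory.Q.map (deltaCxIso f J L).hom := by
  haveI := isLeft₂ f L
  rw [← στ_hom_app]
  exact (G₂ f L).leftDerived_fac_app (γ₂ f L) (WQ Y) (G₁ f L) (γ₁ f L ≫ (στ f L).hom) J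

/-- uniqueness of transformations into `Lf^* (-) ⊗^L f^* L` -/
lemma ext_G₂ {H : DCoh.D Y ⥤ DCoh.D X} (a b : H ⟶ G₂ f L)
    (h : ∀ J : CochainComplex Y.Modules ℤ,
      a.app (DerivedCategory.Q.obj J) ≫ (γ₂ f L).app J =
        b.app (DerivedCategory.Q.obj J) ≫ (γ₂ f L).app J) : a = b := by
  haveI := isLeft₂ f L
  apply (G₂ f L).leftDerived_ext (γ₂ f L) (WQ Y)
  ext J
  exact h J

/-- for a K-flat complex the comparison is the isomorphism `lpullTenIso` -/
lemma lpullTenIso_hom_eq (hL : DCoh.IsKFlat L) : (lpullTenIso f L hL).hom = eta f L := by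
  apply ext_G₂
  intro J
  rw [lpullTenIso_hom_app, eta_fac]

/-- the comparison at a K-flat complex `J` is an isomorphism as soon as `J ⊗ L` is acyclic for
`Lf^*` -/
theorem isIso_eta_app_Q (J : CochainComplex Y.Modules ℤ) (hJ : DCoh.IsKFlat J)
    (h : IsIso ((lpullβ f).app ((DCoh.tensorCx.obj J).obj L))) :
    IsIso ((eta f L).app (DerivedCategory.Q.obj J)) := by
  have h1 := eta_fac f L J
  haveI i1 : IsIso ((γ₂ f L).app J) := by
    rw [γ₂_app]
    haveI : IsIso ((lpullβ f).app J) := isIso_lpullβ_app' f J hJ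
    haveI : IsIso ((ε (fL f L)).app ((pC f).obj J)) :=
      isIso_counit_app (Groth.Agent.Lib.Helper5.LTenAll.adaptedQ_tensorCxQ (fL f L))
        (DCoh.LTensorCx (fL f L)) _ _
        (Groth.Agent.Lib.Helper5.KFlatPull.isKFlat_pullback f _ hJ)
    infer_instance
  haveI i2 : IsIso ((γ₁ f L).app J) := by
    rw [γ₁_app]
    haveI : IsIso ((ε L).app J) :=
      isIso_counit_app (Groth.Agent.Lib.Helper5.LTenAll.adaptedQ_tensorCxQ L)
        (DCoh.LTensorCx L) _ J hJ
    infer_instance
  have h2 : IsIso ((eta f L).app (DerivedCategory.Q.obj J) ≫ (γ₂ f L).app J) := by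
    rw [h1]
    infer_instance
  exact IsIso.of_isIso_comp_right _ ((γ₂ f L).app J)

/-- the comparison is an isomorphism as soon as all `J ⊗ L`, `J` K-flat, are acyclic for `Lf^*` -/
theorem isIso_eta_of (h : ∀ J : CochainComplex Y.Modules ℤ, DCoh.IsKFlat J →
    IsIso ((lpullβ f).app ((DCoh.tensorCx.obj J).obj L))) : IsIso (eta f L) := by
  haveI : ∀ M : DCoh.D Y, IsIso ((eta f L).app M) := by
    intro M
    let K₀ : CochainComplex Y.Modules ℤ := DerivedCategory.Q.objPreimage M
    let e : DerivedCategory.Q.obj K₀ ≅ M := DerivedCategory.Q.objObjPreimageIso M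
    obtain ⟨P, p, h1, _, h3, _⟩ :=
      Groth.Agent.Lib.Helper5.KFlatSiteQ.exists_isKFlat_resolution (O := Y.sheaf) K₀
    have : QuasiIso p := h3
    let e' : DerivedCategory.Q.obj P ≅ M := asIso (DerivedCategory.Q.map p) ≪≫ e
    rw [← NatTrans.isIso_app_iff_of_iso (eta f L) e']
    exact isIso_eta_app_Q f L P h1 (h P h1)
  exact NatIso.isIso_of_isIso_app _

section Nat

variable {L} {L' : CochainComplex Y.Modules ℤ} (q : L ⟶ L')

/-- **naturality of the comparison in the complex `L`** -/
theorem eta_naturality_cx :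
    Functor.whiskerRight (ltenMap q) (DCoh.Lpull f) ≫ eta f L' =
      eta f L ≫ Functor.whiskerLeft (DCoh.Lpull f) (ltenMap ((pC f).map q)) := by
  apply ext_G₂
  intro J
  have e1 : (ltenMap q).app (DerivedCategory.Q.obj J) ≫ (ε L').app J =
      (ε L).app J ≫ (tenMap q).app J :=
    Functor.leftDerivedNatTrans_app _ _ _ _ _ _ _
  have e2 : (ltenMap ((pC f).map q)).app (DerivedCategory.Q.obj ((pC f).obj J)) ≫
      (ε (fL f L')).app ((pC f).obj J) =
      (ε (fL f L)).app ((pC f).obj J) ≫ (tenMap ((pC f).map q)).app ((pC f).obj J) :=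
    Functor.leftDerivedNatTrans_app _ _ _ _ _ _ _
  have e3 := (lpullβ f).naturality ((DCoh.tensorCx.obj J).map q)
  have e4 : ((pC f).map ((DCoh.tensorCx.obj J).map q)) ≫ (deltaCxIso f J L').hom =
      (deltaCxIso f J L).hom ≫ (DCoh.tensorCx.obj ((pC f).obj J)).map ((pC f).map q) :=
    deltaCxIso_naturality₂ f J q
  have e5 := (ltenMap ((pC f).map q)).naturality ((lpullβ f).app J)
  dsimp only [NatTrans.comp_app, Functor.whiskerRight_app, Functor.whiskerLeft_app,
    Functor.comp_obj, Functor.comp_map] at e3 e5 ⊢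
  rw [Category.assoc, eta_fac, γ₁_app, γ₂_app, Category.assoc]
  -- left side
  rw [← Category.assoc ((DCoh.Lpull f).map _), ← Functor.map_comp, e1, Functor.map_comp,
    tenMap_app, Category.assoc, ← Category.assoc ((DCoh.Lpull f).map (DerivedCategory.Q.map _)),
    e3, Category.assoc, ← Functor.map_comp, e4, Functor.map_comp]
  -- right side
  have e6 := eta_fac f L J
  rw [γ₂_app] at e6
  rw [Category.assoc ((eta f L).app _), ← Category.assoc ((ltenMap ((pC f).map q)).app _), ← e5,
    Category.assoc, e2, tenMap_app,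
    ← Category.assoc ((DCoh.LTensorCx ((pC f).obj L)).map _),
    ← Category.assoc ((eta f L).app _), e6, γ₁_app, Category.assoc, Category.assoc]

end Nat

end Groth.Agent.Lib.Helper5.TwBC
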