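import Mathlib
import Groth.Agent.Lib.Helper5.TwBC.DeltaComp
import Groth.Agent.Lib.Helper5.TwBC.Eta

/-!
# `f^* (J ⊗ L) ≅ f^* J ⊗ f^* L` for complexes is compatible with composition (helper5)
-/
set_option autoImplicit false
set_option linter.unusedSectionVars false
set_option linter.unusedVariables false
set_option linter.style.haveILetI false
universe u
open CategoryTheory CategoryTheory.Limits AlgebraicGeometry HomologicalComplex
attribute [local instance] HasDerivedCategory.standard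

namespace Groth.Agent.Lib.Helper5.TwBC

open Groth.Agent.Lib.Helper5.ProjF Groth.Agent.Lib.Helper5.PullTenNat
  Groth.Agent.Lib.Helper5.TotFun

variable {X₂ X₁ X₀ : Scheme.{u}} (a : X₂ ⟶ X₁) (b : X₁ ⟶ X₀)

/-- the component of `(pullbackComp a b).inv`, with its natural type -/
noncomputable def pci (M : X₀.Modules) :
    (Scheme.Modules.pullback (a ≫ b)).obj M ⟶
      (Scheme.Modules.pullback a).obj ((Scheme.Modules.pullback b).obj M) :=
  (Scheme.Modules.pullbackComp a b).inv.app M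

/-- `a^* b^* K ≅ (a ≫ b)^* K` for complexes -/
noncomputable def pcIso (K : CochainComplex X₀.Modules ℤ) :
    (pC a).obj ((pC b).obj K) ≅ (pC (a ≫ b)).obj K :=
  HomologicalComplex.Hom.isoOfComponents
    (fun n => (Scheme.Modules.pullbackComp a b).app (K.X n))
    (fun i j _ => ((Scheme.Modules.pullbackComp a b).hom.naturality (K.d i j)).symm)

@[simp] lemma pcIso_inv_f (K : CochainComplex X₀.Modules ℤ) (n : ℤ) :
    (pcIso a b K).inv.f n = (Scheme.Modules.pullbackComp a b).inv.app (K.X n) := rfl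

@[simp] lemma pcIso_hom_f (K : CochainComplex X₀.Modules ℤ) (n : ℤ) :
    (pcIso a b K).hom.f n = (Scheme.Modules.pullbackComp a b).hom.app (K.X n) := rfl

lemma pcIso_hom_naturality {K K' : CochainComplex X₀.Modules ℤ} (φ : K ⟶ K') :
    (pC a).map ((pC b).map φ) ≫ (pcIso a b K').hom = (pcIso a b K).hom ≫ (pC (a ≫ b)).map φ := by
  refine HomologicalComplex.hom_ext _ _ (fun n => ?_)
  exact (Scheme.Modules.pullbackComp a b).hom.naturality (φ.f n)

lemma pcIso_inv_naturality {K K' : CochainComplex X₀.Modules ℤ} (φ : K ⟶ K') :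
    (pC (a ≫ b)).map φ ≫ (pcIso a b K').inv = (pcIso a b K).inv ≫ (pC a).map ((pC b).map φ) := by
  refine HomologicalComplex.hom_ext _ _ (fun n => ?_)
  exact (Scheme.Modules.pullbackComp a b).inv.naturality (φ.f n)

lemma chain_aux {C : Type*} [Category C] {A0 A1 A2 A3 A4 A5 A6 A7 B1 B2 B3 B4 : C}
    {ι : A0 ⟶ A1} {c1 : A1 ⟶ A2} {e : A2 ⟶ A3} {e' : A3 ⟶ A4}
    {c0 : A0 ⟶ A5} {bι : A5 ⟶ A2} {d : A5 ⟶ A6} {ι' : A6 ⟶ A3} {d' : A6 ⟶ A7} {ι'' : A7 ⟶ A4}
    {eab : A1 ⟶ B1} {m1 : B1 ⟶ B2} {m2 : B2 ⟶ A4} {dab : A0 ⟶ B3} {ι1 : B3 ⟶ B1}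
    {t1 : B3 ⟶ B4} {ι2 : B4 ⟶ B2} {t2 : B4 ⟶ A7}
    (l1 : ι ≫ c1 = c0 ≫ bι) (l2 : bι ≫ e = d ≫ ι') (l3 : ι' ≫ e' = d' ≫ ι'')
    (r1 : ι ≫ eab = dab ≫ ι1) (r2 : ι1 ≫ m1 = t1 ≫ ι2) (r3 : ι2 ≫ m2 = t2 ≫ ι'')
    (key : c0 ≫ d ≫ d' = dab ≫ t1 ≫ t2) :
    ι ≫ c1 ≫ e ≫ e' = ι ≫ eab ≫ m1 ≫ m2 := by
  rw [reassoc_of% l1, reassoc_of% l2, l3, reassoc_of% r1, reassoc_of% r2, r3, reassoc_of% key]

variable (J L : CochainComplex X₀.Modules ℤ)

/-- **compatibility of `deltaCxIso` with composition** -/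
theorem deltaCxIso_comp :
    (pcIso a b ((DCoh.tensorCx.obj J).obj L)).inv ≫ (pC a).map (deltaCxIso b J L).hom ≫
        (deltaCxIso a ((pC b).obj J) ((pC b).obj L)).hom =
      (deltaCxIso (a ≫ b) J L).hom ≫ (DCoh.tensorCx.map (pcIso a b J).inv).app _ ≫
        (DCoh.tensorCx.obj _).map (pcIso a b L).inv := by
  refine HomologicalComplex.hom_ext _ _ (fun n => ?_)
  apply hom_ext_G DCoh.tensorBi (Scheme.Modules.pullback (a ≫ b)) J L
  intro p q hpq
  let eb := eIso DCoh.tensorBi DCoh.tensorBi (Scheme.Modules.pullback b)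
    (Scheme.Modules.pullback b) (Scheme.Modules.pullback b) (deltaIso b) J L n
  let ea := eIso DCoh.tensorBi DCoh.tensorBi (Scheme.Modules.pullback a)
    (Scheme.Modules.pullback a) (Scheme.Modules.pullback a) (deltaIso a)
    ((pC b).obj J) ((pC b).obj L) n
  let eab := eIso DCoh.tensorBi DCoh.tensorBi (Scheme.Modules.pullback (a ≫ b))
    (Scheme.Modules.pullback (a ≫ b)) (Scheme.Modules.pullback (a ≫ b)) (deltaIso (a ≫ b)) J L n
  let M1 := mapBifunctorMap (pcIso a b J).inv (𝟙 ((pC (a ≫ b)).obj L)) DCoh.tensorBi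
    (ComplexShape.up ℤ)
  let M2 := mapBifunctorMap (𝟙 ((pC a).obj ((pC b).obj J))) (pcIso a b L).inv DCoh.tensorBi
    (ComplexShape.up ℤ)
  have e1 : ((pcIso a b ((DCoh.tensorCx.obj J).obj L)).inv ≫ (pC a).map (deltaCxIso b J L).hom ≫
        (deltaCxIso a ((pC b).obj J) ((pC b).obj L)).hom).f n =
      pci a b (((DCoh.tensorCx.obj J).obj L).X n) ≫
        (Scheme.Modules.pullback a).map eb.hom ≫ ea.hom := rfl
  have e2 : ((deltaCxIso (a ≫ b) J L).hom ≫ (DCoh.tensorCx.map (pcIso a b J).inv).app _ ≫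
        (DCoh.tensorCx.obj _).map (pcIso a b L).inv).f n = eab.hom ≫ M1.f n ≫ M2.f n := rfl
  -- the left hand side
  have l1 : (Scheme.Modules.pullback (a ≫ b)).map (ιA DCoh.tensorBi J L p q n hpq) ≫
      pci a b (((DCoh.tensorCx.obj J).obj L).X n) =
      pci a b ((DCoh.tensorBi.obj (J.X p)).obj (L.X q)) ≫
        (Scheme.Modules.pullback a).map ((Scheme.Modules.pullback b).map
          (ιA DCoh.tensorBi J L p q n hpq)) :=
    (Scheme.Modules.pullbackComp a b).inv.naturality (ιA DCoh.tensorBi J L p q n hpq)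
  have l2 : (Scheme.Modules.pullback b).map (ιA DCoh.tensorBi J L p q n hpq) ≫ eb.hom =
      (deltaIso b (J.X p) (L.X q)).hom ≫ ιA DCoh.tensorBi ((pC b).obj J) ((pC b).obj L) p q n hpq :=
    ι_eIso DCoh.tensorBi DCoh.tensorBi (Scheme.Modules.pullback b)
      (Scheme.Modules.pullback b) (Scheme.Modules.pullback b) (deltaIso b) J L p q n hpq
  have l3 : (Scheme.Modules.pullback a).map
        (ιA DCoh.tensorBi ((pC b).obj J) ((pC b).obj L) p q n hpq) ≫ ea.hom =
      (deltaIso a (((pC b).obj J).X p) (((pC b).obj L).X q)).hom ≫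
        ιA DCoh.tensorBi ((pC a).obj ((pC b).obj J)) ((pC a).obj ((pC b).obj L)) p q n hpq :=
    ι_eIso DCoh.tensorBi DCoh.tensorBi (Scheme.Modules.pullback a)
      (Scheme.Modules.pullback a) (Scheme.Modules.pullback a) (deltaIso a)
      ((pC b).obj J) ((pC b).obj L) p q n hpq
  -- the right hand side
  have r1 : (Scheme.Modules.pullback (a ≫ b)).map (ιA DCoh.tensorBi J L p q n hpq) ≫ eab.hom =
      (deltaIso (a ≫ b) (J.X p) (L.X q)).hom ≫
        ιA DCoh.tensorBi ((pC (a ≫ b)).obj J) ((pC (a ≫ b)).obj L) p q n hpq :=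
    ι_eIso DCoh.tensorBi DCoh.tensorBi (Scheme.Modules.pullback (a ≫ b))
      (Scheme.Modules.pullback (a ≫ b)) (Scheme.Modules.pullback (a ≫ b)) (deltaIso (a ≫ b))
      J L p q n hpq
  have r2 : ιA DCoh.tensorBi ((pC (a ≫ b)).obj J) ((pC (a ≫ b)).obj L) p q n hpq ≫ M1.f n =
      (DCoh.tensorBi.map (pci a b (J.X p))).app (((pC (a ≫ b)).obj L).X q) ≫
        ιA DCoh.tensorBi ((pC a).obj ((pC b).obj J)) ((pC (a ≫ b)).obj L) p q n hpq :=
    ιA_map DCoh.tensorBi (pcIso a b J).inv ((pC (a ≫ b)).obj L) p q n hpq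
  have r3 : ιA DCoh.tensorBi ((pC a).obj ((pC b).obj J)) ((pC (a ≫ b)).obj L) p q n hpq ≫ M2.f n =
      (DCoh.tensorBi.obj (((pC a).obj ((pC b).obj J)).X p)).map (pci a b (L.X q)) ≫
        ιA DCoh.tensorBi ((pC a).obj ((pC b).obj J)) ((pC a).obj ((pC b).obj L)) p q n hpq :=
    ιA_map₂ DCoh.tensorBi ((pC a).obj ((pC b).obj J)) (pcIso a b L).inv p q n hpq
  have key : pci a b ((DCoh.tensorBi.obj (J.X p)).obj (L.X q)) ≫
      (Scheme.Modules.pullback a).map (deltaIso b (J.X p) (L.X q)).hom ≫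
      (deltaIso a (((pC b).obj J).X p) (((pC b).obj L).X q)).hom =
      (deltaIso (a ≫ b) (J.X p) (L.X q)).hom ≫
        (DCoh.tensorBi.map (pci a b (J.X p))).app (((pC (a ≫ b)).obj L).X q) ≫
        (DCoh.tensorBi.obj (((pC a).obj ((pC b).obj J)).X p)).map (pci a b (L.X q)) :=
    deltaMap_comp a b (J.X p) (L.X q)
  have l2a : (Scheme.Modules.pullback a).map ((Scheme.Modules.pullback b).map
        (ιA DCoh.tensorBi J L p q n hpq)) ≫ (Scheme.Modules.pullback a).map eb.hom =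
      (Scheme.Modules.pullback a).map (deltaIso b (J.X p) (L.X q)).hom ≫
        (Scheme.Modules.pullback a).map
          (ιA DCoh.tensorBi ((pC b).obj J) ((pC b).obj L) p q n hpq) := by
    rw [← Functor.map_comp, l2, Functor.map_comp]
  have fin := chain_aux l1 l2a l3 r1 r2 r3 key
  exact fin

end Groth.Agent.Lib.Helper5.TwBC
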