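import Mathlib
import Groth.Agent.Lib.Helper5.TwBC.DeltaCxComp
import Groth.Agent.Lib.Helper5.BC.Paste

/-!
# Pseudo-functoriality of the comparison `Lf^* (M ⊗^L L) ⟶ Lf^* M ⊗^L f^* L` (helper5)
-/
set_option autoImplicit false
set_option linter.unusedSectionVars false
set_option linter.unusedVariables false
set_option linter.style.haveILetI false
universe u
open CategoryTheory CategoryTheory.Limits AlgebraicGeometry
open Groth.Agent.Lib.Helper5.DerQ
attribute [local instance] HasDerivedCategory.standard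

namespace Groth.Agent.Lib.Helper5.TwBC

open Groth.Agent.Lib.Helper5.PullTenNat Groth.Agent.Lib.Helper5.ProjF
  Groth.Agent.Lib.Helper5.ProjF3 Groth.Agent.Lib.Helper5.ProjFX
  Groth.Agent.Lib.Helper5.LTenCongr Groth.Agent.Lib.Helper5.AssocD Groth.Agent.Lib.Helper5.BC
  Groth.Agent.Lib.Helper5.LpullLib

section Fun

variable {X : Scheme.{u}} {K K' K'' : CochainComplex X.Modules ℤ}

lemma tenMap_id (K : CochainComplex X.Modules ℤ) : tenMap (𝟙 K) = 𝟙 _ := by
  ext N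
  exact (congrArg DerivedCategory.Q.map ((DCoh.tensorCx.obj N).map_id K)).trans
    (DerivedCategory.Q.map_id _)

lemma tenMap_comp (q : K ⟶ K') (q' : K' ⟶ K'') : tenMap (q ≫ q') = tenMap q ≫ tenMap q' := by
  ext N
  exact (congrArg DerivedCategory.Q.map ((DCoh.tensorCx.obj N).map_comp q q')).trans
    (DerivedCategory.Q.map_comp _ _)

lemma ltenMap_id (K : CochainComplex X.Modules ℤ) : ltenMap (𝟙 K) = 𝟙 _ := by
  rw [ltenMap, tenMap_id]
  exact Functor.leftDerivedNatTrans_id _ _ _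

lemma ltenMap_comp (q : K ⟶ K') (q' : K' ⟶ K'') : ltenMap (q ≫ q') = ltenMap q ≫ ltenMap q' := by
  rw [ltenMap, tenMap_comp]
  exact (Functor.leftDerivedNatTrans_comp _ _ _ _ _ _ _ _ _).symm

/-- isomorphic complexes have isomorphic derived tensor product functors -/
noncomputable def ltenIso (e : K ≅ K') : DCoh.LTensorCx K ≅ DCoh.LTensorCx K' where
  hom := ltenMap e.hom
  inv := ltenMap e.inv
  hom_inv_id := by rw [← ltenMap_comp, e.hom_inv_id, ltenMap_id]
  inv_hom_id := by rw [← ltenMap_comp, e.inv_hom_id, ltenMap_id]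

@[simp] lemma ltenIso_hom (e : K ≅ K') : (ltenIso e).hom = ltenMap e.hom := rfl
@[simp] lemma ltenIso_inv (e : K ≅ K') : (ltenIso e).inv = ltenMap e.inv := rfl

end Fun

variable {X₂ X₁ X₀ : Scheme.{u}} (a : X₂ ⟶ X₁) (b : X₁ ⟶ X₀)

/-- the composition isomorphism of derived pullbacks is computed by the module-level one -/
lemma cL_lpullβ (K : CochainComplex X₀.Modules ℤ) :
    (cL a b).hom.app (DerivedCategory.Q.obj K) ≫ (lpullβ (a ≫ b)).app K =
      (DCoh.Lpull a).map ((lpullβ b).app K) ≫ (lpullβ a).app ((pC b).obj K) ≫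
        DerivedCategory.Q.map (pcIso a b K).hom := by
  have h := cL'_kap a b (a ≫ b) rfl
    ((HomotopyCategory.quotient X₀.Modules (ComplexShape.up ℤ)).obj K)
  rw [cL'_rfl, pcK'_hom_app_quotient] at h
  have h2 : (Functor.mapHomologicalComplexCompIso (pc' a b (a ≫ b) rfl)
      (ComplexShape.up ℤ)).hom.app K = (pcIso a b K).hom := by
    refine HomologicalComplex.hom_ext _ _ (fun n => ?_)
    simp [pc', Scheme.Modules.pullbackCongr]
  rw [h2] at h
  exact h

/-- `La^* Lb^* (Q J) ⟶ Q ((a ≫ b)^* J)` -/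
noncomputable def phi (J : CochainComplex X₀.Modules ℤ) :
    (DCoh.Lpull a).obj ((DCoh.Lpull b).obj (DerivedCategory.Q.obj J)) ⟶
      DerivedCategory.Q.obj ((pC (a ≫ b)).obj J) :=
  (DCoh.Lpull a).map ((lpullβ b).app J) ≫ (lpullβ a).app ((pC b).obj J) ≫
    DerivedCategory.Q.map (pcIso a b J).hom

variable (L : CochainComplex X₀.Modules ℤ)

/-- the composite comparison -/
noncomputable def etaComp : G₁ b L ⋙ DCoh.Lpull a ⟶ G₂ (a ≫ b) L :=
  Functor.whiskerRight (eta b L) (DCoh.Lpull a) ≫ (Functor.associator _ _ _).hom ≫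
    Functor.whiskerLeft (DCoh.Lpull b) (eta a (fL b L)) ≫ (Functor.associator _ _ _).inv ≫
    Functor.whiskerLeft (DCoh.Lpull b ⋙ DCoh.Lpull a) (ltenMap (pcIso a b L).hom) ≫
    Functor.whiskerRight (cL a b).hom (DCoh.LTensorCx (fL (a ≫ b) L))

lemma etaComp_app (M : DCoh.D X₀) :
    (etaComp a b L).app M = (DCoh.Lpull a).map ((eta b L).app M) ≫
      (eta a (fL b L)).app ((DCoh.Lpull b).obj M) ≫
      (ltenMap (pcIso a b L).hom).app ((DCoh.Lpull a).obj ((DCoh.Lpull b).obj M)) ≫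
      (DCoh.LTensorCx (fL (a ≫ b) L)).map ((cL a b).hom.app M) := by
  dsimp only [etaComp, NatTrans.comp_app, Functor.whiskerRight_app, Functor.whiskerLeft_app,
    Functor.associator_hom_app, Functor.associator_inv_app, Functor.comp_obj]
  simp only [Category.id_comp]

lemma peta_aux {C : Type*} [Category C]
    {A0 A1 A2 A3 A4 A5 A6 A7 A8 A9 A10 A11 A12 A13 A14 A15 A3' : C}
    {m1 : A0 ⟶ A1} {m2 : A1 ⟶ A2} {m3 : A2 ⟶ A3} {m4 : A3 ⟶ A4} {g2ab : A4 ⟶ A5}
    {tφ' : A3 ⟶ A6} {ε' : A6 ⟶ A5} {tφ : A2 ⟶ A7} {m3' : A7 ⟶ A6} {ε'' : A7 ⟶ A8} {qL : A8 ⟶ A5}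
    {t1 : A2 ⟶ A9} {g2a : A9 ⟶ A10} {qJ : A10 ⟶ A8} {n1 : A1 ⟶ A11} {m2' : A11 ⟶ A9}
    {g1a : A11 ⟶ A12} {qδa : A12 ⟶ A10} {p1 : A0 ⟶ A13} {p2 : A13 ⟶ A14} {qaδb : A14 ⟶ A12}
    {r1 : A0 ⟶ A15} {r2 : A15 ⟶ A4} {g1ab : A15 ⟶ A3'} {qδab : A3' ⟶ A5} {qpc : A14 ⟶ A3'}
    (s1 : m4 ≫ g2ab = tφ' ≫ ε') (s2 : m3 ≫ tφ' = tφ ≫ m3') (s3 : m3' ≫ ε' = ε'' ≫ qL)
    (s4 : tφ ≫ ε'' = t1 ≫ g2a ≫ qJ) (s5 : m2 ≫ t1 = n1 ≫ m2') (s6 : m2' ≫ g2a = g1a ≫ qδa)
    (s7 : m1 ≫ n1 ≫ g1a = p1 ≫ p2 ≫ qaδb) (s8 : r2 ≫ g2ab = g1ab ≫ qδab)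
    (s9 : r1 ≫ g1ab = p1 ≫ p2 ≫ qpc) (s10 : qpc ≫ qδab = qaδb ≫ qδa ≫ qJ ≫ qL) :
    (m1 ≫ m2 ≫ m3 ≫ m4) ≫ g2ab = (r1 ≫ r2) ≫ g2ab := by
  simp only [Category.assoc]
  rw [s1, reassoc_of% s2, s3, reassoc_of% s4, reassoc_of% s5, reassoc_of% s6, reassoc_of% s7, s8,
    reassoc_of% s9, s10]

lemma inv_aux {C : Type*} [Category C] {P0 P1 P2 P3 P4 : C} (t : P0 ≅ P1) {A : P0 ⟶ P2}
    {d : P1 ⟶ P3} {x1 : P3 ⟶ P4} {x2 : P4 ⟶ P2} {y2 : P2 ⟶ P4} {y1 : P4 ⟶ P3}
    (h : t.inv ≫ A = d ≫ x1 ≫ x2) (h1 : x1 ≫ y1 = 𝟙 _) (h2 : x2 ≫ y2 = 𝟙 _) :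
    t.hom ≫ d = A ≫ y2 ≫ y1 := by
  have h3 : A = t.hom ≫ d ≫ x1 ≫ x2 := by rw [← h, Iso.hom_inv_id_assoc]
  rw [h3]
  simp only [Category.assoc]
  rw [reassoc_of% h2, h1, Category.comp_id]

/-- the compatibility of `deltaCxIso` with composition, in the other direction -/
lemma deltaCxIso_comp_hom (J : CochainComplex X₀.Modules ℤ) :
    (pcIso a b ((DCoh.tensorCx.obj J).obj L)).hom ≫ (deltaCxIso (a ≫ b) J L).hom =
      ((pC a).map (deltaCxIso b J L).hom ≫ (deltaCxIso a ((pC b).obj J) ((pC b).obj L)).hom) ≫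
        (DCoh.tensorCx.map (pcIso a b J).hom).app ((pC a).obj ((pC b).obj L)) ≫
        (DCoh.tensorCx.obj ((pC (a ≫ b)).obj J)).map (pcIso a b L).hom := by
  have h := deltaCxIso_comp a b J L
  have h1 : (DCoh.tensorCx.map (pcIso a b J).inv).app ((pC (a ≫ b)).obj L) ≫
      (DCoh.tensorCx.map (pcIso a b J).hom).app ((pC (a ≫ b)).obj L) = 𝟙 _ := by
    rw [← NatTrans.comp_app, ← Functor.map_comp, Iso.inv_hom_id, CategoryTheory.Functor.map_id]
    rfl
  have h2 : (DCoh.tensorCx.obj ((pC a).obj ((pC b).obj J))).map (pcIso a b L).inv ≫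
      (DCoh.tensorCx.obj ((pC a).obj ((pC b).obj J))).map (pcIso a b L).hom = 𝟙 _ := by
    rw [← Functor.map_comp, Iso.inv_hom_id, CategoryTheory.Functor.map_id]
  have h3 := inv_aux (pcIso a b ((DCoh.tensorCx.obj J).obj L))
    (A := (pC a).map (deltaCxIso b J L).hom ≫ (deltaCxIso a ((pC b).obj J) ((pC b).obj L)).hom)
    h h1 h2
  rw [h3]
  congr 1
  exact (DCoh.tensorCx.map (pcIso a b J).hom).naturality (pcIso a b L).hom

/-- **pseudo-functoriality of the comparison** -/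
theorem eta_comp : etaComp a b L =
    (Functor.associator _ _ _).hom ≫ Functor.whiskerLeft (DCoh.LTensorCx L) (cL a b).hom ≫
      eta (a ≫ b) L := by
  apply ext_G₂
  intro J
  have s1 : (DCoh.LTensorCx (fL (a ≫ b) L)).map ((cL a b).hom.app (DerivedCategory.Q.obj J)) ≫
      (γ₂ (a ≫ b) L).app J =
      (DCoh.LTensorCx (fL (a ≫ b) L)).map (phi a b J) ≫ (ε (fL (a ≫ b) L)).app ((pC (a ≫ b)).obj J) := by
    rw [γ₂_app, ← Category.assoc, ← Functor.map_comp, cL_lpullβ]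
    rfl
  have s2 : (ltenMap (pcIso a b L).hom).app
        ((DCoh.Lpull a).obj ((DCoh.Lpull b).obj (DerivedCategory.Q.obj J))) ≫
      (DCoh.LTensorCx (fL (a ≫ b) L)).map (phi a b J) =
      (DCoh.LTensorCx (fL a (fL b L))).map (phi a b J) ≫
        (ltenMap (pcIso a b L).hom).app (DerivedCategory.Q.obj ((pC (a ≫ b)).obj J)) :=
    ((ltenMap (pcIso a b L).hom).naturality (phi a b J)).symm
  have s3 : (ltenMap (pcIso a b L).hom).app (DerivedCategory.Q.obj ((pC (a ≫ b)).obj J)) ≫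
      (ε (fL (a ≫ b) L)).app ((pC (a ≫ b)).obj J) =
      (ε (fL a (fL b L))).app ((pC (a ≫ b)).obj J) ≫
        DerivedCategory.Q.map ((DCoh.tensorCx.obj ((pC (a ≫ b)).obj J)).map (pcIso a b L).hom) :=
    Functor.leftDerivedNatTrans_app _ _ _ _ _ _ _
  have hε : (DCoh.LTensorCx (fL a (fL b L))).map (DerivedCategory.Q.map (pcIso a b J).hom) ≫
      (ε (fL a (fL b L))).app ((pC (a ≫ b)).obj J) =
      (ε (fL a (fL b L))).app ((pC a).obj ((pC b).obj J)) ≫
        DerivedCategory.Q.map ((DCoh.tensorCx.map (pcIso a b J).hom).app (fL a (fL b L))) :=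
    (ε (fL a (fL b L))).naturality (pcIso a b J).hom
  have s4 : (DCoh.LTensorCx (fL a (fL b L))).map (phi a b J) ≫
      (ε (fL a (fL b L))).app ((pC (a ≫ b)).obj J) =
      (DCoh.LTensorCx (fL a (fL b L))).map ((DCoh.Lpull a).map ((lpullβ b).app J)) ≫
        (γ₂ a (fL b L)).app ((pC b).obj J) ≫
        DerivedCategory.Q.map ((DCoh.tensorCx.map (pcIso a b J).hom).app (fL a (fL b L))) := by
    rw [γ₂_app, phi, Functor.map_comp, Functor.map_comp, Category.assoc, Category.assoc, hε,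
      Category.assoc]
  have s5 : (eta a (fL b L)).app ((DCoh.Lpull b).obj (DerivedCategory.Q.obj J)) ≫
      (DCoh.LTensorCx (fL a (fL b L))).map ((DCoh.Lpull a).map ((lpullβ b).app J)) =
      (DCoh.Lpull a).map ((DCoh.LTensorCx (fL b L)).map ((lpullβ b).app J)) ≫
        (eta a (fL b L)).app (DerivedCategory.Q.obj ((pC b).obj J)) :=
    ((eta a (fL b L)).naturality ((lpullβ b).app J)).symm
  have s6 : (eta a (fL b L)).app (DerivedCategory.Q.obj ((pC b).obj J)) ≫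
      (γ₂ a (fL b L)).app ((pC b).obj J) =
      (γ₁ a (fL b L)).app ((pC b).obj J) ≫
        DerivedCategory.Q.map (deltaCxIso a ((pC b).obj J) (fL b L)).hom :=
    eta_fac a (fL b L) ((pC b).obj J)
  have h7a : (eta b L).app (DerivedCategory.Q.obj J) ≫
      (DCoh.LTensorCx (fL b L)).map ((lpullβ b).app J) ≫ (ε (fL b L)).app ((pC b).obj J) =
      (γ₁ b L).app J ≫ DerivedCategory.Q.map (deltaCxIso b J L).hom := by
    rw [← γ₂_app]
    exact eta_fac b L J
  have hnat : (DCoh.Lpull a).map (DerivedCategory.Q.map (deltaCxIso b J L).hom) ≫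
      (lpullβ a).app ((DCoh.tensorCx.obj ((pC b).obj J)).obj (fL b L)) =
      (lpullβ a).app ((pC b).obj ((DCoh.tensorCx.obj J).obj L)) ≫
        DerivedCategory.Q.map ((pC a).map (deltaCxIso b J L).hom) :=
    (lpullβ a).naturality (deltaCxIso b J L).hom
  have s7 : (DCoh.Lpull a).map ((eta b L).app (DerivedCategory.Q.obj J)) ≫
      (DCoh.Lpull a).map ((DCoh.LTensorCx (fL b L)).map ((lpullβ b).app J)) ≫
      (γ₁ a (fL b L)).app ((pC b).obj J) =
      (DCoh.Lpull a).map ((γ₁ b L).app J) ≫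
        (lpullβ a).app ((pC b).obj ((DCoh.tensorCx.obj J).obj L)) ≫
        DerivedCategory.Q.map ((pC a).map (deltaCxIso b J L).hom) := by
    rw [γ₁_app, ← hnat]
    have h7b := congrArg (fun t => (DCoh.Lpull a).map t) h7a
    simp only [Functor.map_comp] at h7b
    rw [reassoc_of% h7b]
  have s8 : (eta (a ≫ b) L).app (DerivedCategory.Q.obj J) ≫ (γ₂ (a ≫ b) L).app J =
      (γ₁ (a ≫ b) L).app J ≫ DerivedCategory.Q.map (deltaCxIso (a ≫ b) J L).hom :=
    eta_fac (a ≫ b) L J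
  have hc := (cL a b).hom.naturality ((ε L).app J)
  have hcβ := cL_lpullβ a b ((DCoh.tensorCx.obj J).obj L)
  have s9 : (cL a b).hom.app ((DCoh.LTensorCx L).obj (DerivedCategory.Q.obj J)) ≫
      (γ₁ (a ≫ b) L).app J =
      (DCoh.Lpull a).map ((γ₁ b L).app J) ≫
        (lpullβ a).app ((pC b).obj ((DCoh.tensorCx.obj J).obj L)) ≫
        DerivedCategory.Q.map (pcIso a b ((DCoh.tensorCx.obj J).obj L)).hom := by
    rw [γ₁_app, γ₁_app, Functor.map_comp, Category.assoc]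
    refine ((Category.assoc _ _ _).symm.trans ?_)
    refine (congrArg (fun t => t ≫ (lpullβ (a ≫ b)).app ((DCoh.tensorCx.obj J).obj L))
      hc.symm).trans ?_
    refine (Category.assoc _ _ _).trans ?_
    exact congrArg (fun t => (DCoh.Lpull a).map ((DCoh.Lpull b).map ((ε L).app J)) ≫ t) hcβ
  have s10 : DerivedCategory.Q.map (pcIso a b ((DCoh.tensorCx.obj J).obj L)).hom ≫
      DerivedCategory.Q.map (deltaCxIso (a ≫ b) J L).hom =
      DerivedCategory.Q.map ((pC a).map (deltaCxIso b J L).hom) ≫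
        DerivedCategory.Q.map (deltaCxIso a ((pC b).obj J) (fL b L)).hom ≫
        DerivedCategory.Q.map ((DCoh.tensorCx.map (pcIso a b J).hom).app (fL a (fL b L))) ≫
        DerivedCategory.Q.map ((DCoh.tensorCx.obj ((pC (a ≫ b)).obj J)).map (pcIso a b L).hom) := by
    rw [← Functor.map_comp, deltaCxIso_comp_hom]
    simp only [Functor.map_comp, Category.assoc]
  have main := peta_aux s1 s2 s3 s4 s5 s6 s7 s8 s9 s10
  rw [etaComp_app]
  have hr : ((Functor.associator _ _ _).hom ≫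
      Functor.whiskerLeft (DCoh.LTensorCx L) (cL a b).hom ≫ eta (a ≫ b) L).app
        (DerivedCategory.Q.obj J) =
      (cL a b).hom.app ((DCoh.LTensorCx L).obj (DerivedCategory.Q.obj J)) ≫
        (eta (a ≫ b) L).app (DerivedCategory.Q.obj J) := by
    dsimp only [NatTrans.comp_app, Functor.associator_hom_app, Functor.whiskerLeft_app]
    exact Category.id_comp _
  rw [hr]
  exact main

section Flex

variable {a b}

/-- flexible composition isomorphism of pulled back complexes -/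
noncomputable def pcIso' (a : X₂ ⟶ X₁) (b : X₁ ⟶ X₀) (ab : X₂ ⟶ X₀) (h : a ≫ b = ab)
    (K : CochainComplex X₀.Modules ℤ) : (pC a).obj ((pC b).obj K) ≅ (pC ab).obj K := by
  subst h
  exact pcIso a b K

/-- **pseudo-functoriality of the comparison, objectwise and through an arbitrary composite** -/
theorem eta_comp_app' (ab : X₂ ⟶ X₀) (h : a ≫ b = ab) (M : DCoh.D X₀) :
    (DCoh.Lpull a).map ((eta b L).app M) ≫ (eta a (fL b L)).app ((DCoh.Lpull b).obj M) ≫
      (ltenMap (pcIso' a b ab h L).hom).app ((DCoh.Lpull a).obj ((DCoh.Lpull b).obj M)) ≫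
      (DCoh.LTensorCx (fL ab L)).map ((cL' a b ab h).hom.app M) =
    (cL' a b ab h).hom.app ((DCoh.LTensorCx L).obj M) ≫ (eta ab L).app M := by
  subst h
  have h1 := congrArg (fun t => t.app M) (eta_comp a b L)
  rw [etaComp_app] at h1
  rw [cL'_rfl]
  refine h1.trans ?_
  dsimp only [NatTrans.comp_app, Functor.associator_hom_app, Functor.whiskerLeft_app]
  exact Category.id_comp _

end Flex

end Groth.Agent.Lib.Helper5.TwBC
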