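import Mathlib
import Groth.Agent.Lib.Helper5.TwBC.PEta
import Groth.Agent.Lib.Helper5.BC.Local
import Groth.Agent.Lib.Helper5.BC.AffFlat

/-!
# The twisted base change transformation `Lg^* Rf_* (E ⊗^L L) ⟶ Rf'_* (Lg'^* E ⊗^L g'^* L)` (helper5)
-/
set_option autoImplicit false
set_option linter.unusedSectionVars false
set_option linter.unusedVariables false
set_option linter.style.haveILetI false
universe u
open CategoryTheory CategoryTheory.Limits AlgebraicGeometry
open Groth.Agent.Lib.Helper5.DerQ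
attribute [local instance] HasDerivedCategory.standard

namespace Groth.Agent.Lib.Helper5.TwBC

open Groth.Agent.Lib.Helper5.PullTenNat Groth.Agent.Lib.Helper5.ProjF
  Groth.Agent.Lib.Helper5.ProjF3 Groth.Agent.Lib.Helper5.ProjFX
  Groth.Agent.Lib.Helper5.LTenCongr Groth.Agent.Lib.Helper5.AssocD Groth.Agent.Lib.Helper5.BC
  Groth.Agent.Lib.Helper5.LpullLib

lemma isIso_mid_iff {C : Type*} [Category C] {A B D E : C} (a : A ⟶ B) (b : B ⟶ D) (c : D ⟶ E)
    [IsIso a] [IsIso c] : IsIso (a ≫ b ≫ c) ↔ IsIso b := by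
  constructor
  · intro h
    have h2 : IsIso (b ≫ c) := IsIso.of_isIso_comp_left a _
    exact IsIso.of_isIso_comp_right b c
  · intro h
    infer_instance

/-- for a flat morphism, the comparison is an isomorphism -/
instance isIso_eta_of_flat {X Y : Scheme.{u}} (f : X ⟶ Y) [Flat f]
    (L : CochainComplex Y.Modules ℤ) : IsIso (eta f L) :=
  isIso_eta_of f L (fun J _ => isIso_kap_of_flat f _)

instance isIso_ltenMap_of_isIso {X : Scheme.{u}} {K K' : CochainComplex X.Modules ℤ} (q : K ⟶ K')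
    [IsIso q] : IsIso (ltenMap q) :=
  inferInstanceAs (IsIso (ltenIso (asIso q)).hom)

variable {X Y X' Y' : Scheme.{u}} {f : X ⟶ Y} {g : Y' ⟶ Y} {f' : X' ⟶ Y'} {g' : X' ⟶ X}

/-- the twisted base change transformation -/
noncomputable def tau (w : g' ≫ f = f' ≫ g) (L : CochainComplex X.Modules ℤ) :
    (DCoh.LTensorCx L ⋙ DCoh.Rpush f) ⋙ DCoh.Lpull g ⟶ G₂ g' L ⋙ DCoh.Rpush f' :=
  (Functor.associator _ _ _).hom ≫ Functor.whiskerLeft (DCoh.LTensorCx L) (theta w) ≫
    (Functor.associator _ _ _).inv ≫ Functor.whiskerRight (eta g' L) (DCoh.Rpush f')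

lemma tau_app (w : g' ≫ f = f' ≫ g) (L : CochainComplex X.Modules ℤ) (E : DCoh.D X) :
    (tau w L).app E = (theta w).app ((DCoh.LTensorCx L).obj E) ≫
      (DCoh.Rpush f').map ((eta g' L).app E) := by
  dsimp only [tau, NatTrans.comp_app, Functor.whiskerRight_app, Functor.whiskerLeft_app,
    Functor.associator_hom_app, Functor.associator_inv_app, Functor.comp_obj]
  simp only [Category.id_comp]

/-- the twisted base change transformation only depends on the morphisms -/
theorem isIso_tau_congr {g₁ g₂ : Y' ⟶ Y} {g₁' g₂' : X' ⟶ X} (hg : g₁ = g₂) (hg' : g₁' = g₂')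
    (w₁ : g₁' ≫ f = f' ≫ g₁) (w₂ : g₂' ≫ f = f' ≫ g₂) (L : CochainComplex X.Modules ℤ)
    (E : DCoh.D X) :
    IsIso ((tau w₁ L).app E) ↔ IsIso ((tau w₂ L).app E) := by
  subst hg hg'
  exact Iff.rfl

/-- naturality of the twisted base change transformation in the complex -/
theorem tau_naturality_cx (w : g' ≫ f = f' ≫ g) {L L' : CochainComplex X.Modules ℤ} (q : L ⟶ L')
    (E : DCoh.D X) :
    (tau w L).app E ≫ (DCoh.Rpush f').map
        ((ltenMap ((pC g').map q)).app ((DCoh.Lpull g').obj E)) =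
      (DCoh.Lpull g).map ((DCoh.Rpush f).map ((ltenMap q).app E)) ≫ (tau w L').app E := by
  have h1 : (DCoh.Lpull g').map ((ltenMap q).app E) ≫ (eta g' L').app E =
      (eta g' L).app E ≫ (ltenMap ((pC g').map q)).app ((DCoh.Lpull g').obj E) :=
    congrArg (fun t => t.app E) (eta_naturality_cx g' q)
  have h2 : (DCoh.Lpull g).map ((DCoh.Rpush f).map ((ltenMap q).app E)) ≫
      (theta w).app ((DCoh.LTensorCx L').obj E) =
      (theta w).app ((DCoh.LTensorCx L).obj E) ≫
        (DCoh.Rpush f').map ((DCoh.Lpull g').map ((ltenMap q).app E)) :=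
    (theta w).naturality ((ltenMap q).app E)
  rw [tau_app, tau_app, Category.assoc, ← Functor.map_comp, ← h1, Functor.map_comp,
    reassoc_of% h2]

/-- the twisted base change transformation is insensitive to isomorphisms of the complex -/
theorem isIso_tau_iff_of_iso (w : g' ≫ f = f' ≫ g) {L L' : CochainComplex X.Modules ℤ}
    (e : L ≅ L') (E : DCoh.D X) :
    IsIso ((tau w L).app E) ↔ IsIso ((tau w L').app E) := by
  have h := tau_naturality_cx w e.hom E
  haveI : IsIso ((pC g').map e.hom) := inferInstance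
  haveI i1 : IsIso ((DCoh.Rpush f').map
      ((ltenMap ((pC g').map e.hom)).app ((DCoh.Lpull g').obj E))) := inferInstance
  haveI i2 : IsIso ((DCoh.Lpull g).map ((DCoh.Rpush f).map ((ltenMap e.hom).app E))) :=
    inferInstance
  constructor
  · intro h3
    have h4 : IsIso ((DCoh.Lpull g).map ((DCoh.Rpush f).map ((ltenMap e.hom).app E)) ≫
        (tau w L').app E) := by
      rw [← h]
      infer_instance
    exact IsIso.of_isIso_comp_left
      ((DCoh.Lpull g).map ((DCoh.Rpush f).map ((ltenMap e.hom).app E))) _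
  · intro h3
    have h4 : IsIso ((tau w L).app E ≫ (DCoh.Rpush f').map
        ((ltenMap ((pC g').map e.hom)).app ((DCoh.Lpull g').obj E))) := by
      rw [h]
      infer_instance
    exact IsIso.of_isIso_comp_right _ ((DCoh.Rpush f').map
        ((ltenMap ((pC g').map e.hom)).app ((DCoh.Lpull g').obj E)))

section HPaste

variable {X'' Y'' : Scheme.{u}} {u : Y'' ⟶ Y'} {f'' : X'' ⟶ Y''} {u' : X'' ⟶ X'}

lemma hp_aux {C : Type*} [Category C] {A0 A1 A2 A3 A4 A5 A6 A7 A8 : C}
    {ci : A0 ⟶ A1} {lθ : A1 ⟶ A2} {θA : A2 ⟶ A3} {rc : A3 ⟶ A4} {rη : A4 ⟶ A5} {lrη : A2 ⟶ A6}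
    {θB : A6 ⟶ A7} {rlη : A3 ⟶ A7} {rηu : A7 ⟶ A8} {rl : A8 ⟶ A5}
    (hθ : lrη ≫ θB = θA ≫ rlη) (hP : rc ≫ rη = rlη ≫ rηu ≫ rl) :
    (ci ≫ lθ ≫ θA ≫ rc) ≫ rη = ci ≫ (lθ ≫ lrη) ≫ (θB ≫ rηu) ≫ rl := by
  simp only [Category.assoc]
  rw [hP, reassoc_of% hθ]

/-- the tail isomorphism in the horizontal pasting -/
noncomputable def hTail (u' : X'' ⟶ X') (g' : X' ⟶ X) (L : CochainComplex X.Modules ℤ)
    (E : DCoh.D X) :
    (DCoh.LTensorCx (fL u' (fL g' L))).obj ((DCoh.Lpull u').obj ((DCoh.Lpull g').obj E)) ⟶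
      (DCoh.LTensorCx (fL (u' ≫ g') L)).obj ((DCoh.Lpull (u' ≫ g')).obj E) :=
  (ltenMap (pcIso u' g' L).hom).app ((DCoh.Lpull u').obj ((DCoh.Lpull g').obj E)) ≫
    (DCoh.LTensorCx (fL (u' ≫ g') L)).map ((cL u' g').hom.app E)

instance (u' : X'' ⟶ X') (g' : X' ⟶ X) (L : CochainComplex X.Modules ℤ) (E : DCoh.D X) :
    IsIso (hTail u' g' L E) := by
  unfold hTail
  infer_instance

/-- **horizontal pasting of twisted base change transformations** -/
theorem tau_hpaste (w : g' ≫ f = f' ≫ g) (w' : u' ≫ f' = f'' ≫ u)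
    (W : (u' ≫ g') ≫ f = f'' ≫ (u ≫ g)) (L : CochainComplex X.Modules ℤ) (E : DCoh.D X) :
    (tau W L).app E =
      (cL u g).inv.app ((DCoh.Rpush f).obj ((DCoh.LTensorCx L).obj E)) ≫
        (DCoh.Lpull u).map ((tau w L).app E) ≫
        (tau w' (fL g' L)).app ((DCoh.Lpull g').obj E) ≫
        (DCoh.Rpush f'').map (hTail u' g' L E) := by
  have hθ : (DCoh.Lpull u).map ((DCoh.Rpush f').map ((eta g' L).app E)) ≫
      (theta w').app ((DCoh.LTensorCx (fL g' L)).obj ((DCoh.Lpull g').obj E)) =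
      (theta w').app ((DCoh.Lpull g').obj ((DCoh.LTensorCx L).obj E)) ≫
        (DCoh.Rpush f'').map ((DCoh.Lpull u').map ((eta g' L).app E)) :=
    (theta w').naturality ((eta g' L).app E)
  have hη := congrArg (fun t => t.app E) (eta_comp u' g' L)
  rw [etaComp_app] at hη
  have hη' : (cL u' g').hom.app ((DCoh.LTensorCx L).obj E) ≫ (eta (u' ≫ g') L).app E =
      (DCoh.Lpull u').map ((eta g' L).app E) ≫
        (eta u' (fL g' L)).app ((DCoh.Lpull g').obj E) ≫ hTail u' g' L E := by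
    refine Eq.trans ?_ hη.symm
    dsimp only [NatTrans.comp_app, Functor.associator_hom_app, Functor.whiskerLeft_app]
    exact (Category.id_comp _).symm
  have hP : (DCoh.Rpush f'').map ((cL u' g').hom.app ((DCoh.LTensorCx L).obj E)) ≫
      (DCoh.Rpush f'').map ((eta (u' ≫ g') L).app E) =
      (DCoh.Rpush f'').map ((DCoh.Lpull u').map ((eta g' L).app E)) ≫
        (DCoh.Rpush f'').map ((eta u' (fL g' L)).app ((DCoh.Lpull g').obj E)) ≫
        (DCoh.Rpush f'').map (hTail u' g' L E) := by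
    rw [← Functor.map_comp, hη', Functor.map_comp, Functor.map_comp]
  rw [tau_app, theta_hpaste w w' W, tau_app, tau_app, Functor.map_comp]
  exact hp_aux hθ hP

end HPaste

section Restricted

variable (hsq : IsPullback g' f' f g) (U : Y.Opens) (U' : Y'.Opens) (hU' : U' ≤ g ⁻¹ᵁ U)

/-- **locality of twisted base change**: restricting `τ` to an open of `Y'` -/
theorem isIso_lpull_tau_iff (L : CochainComplex X.Modules ℤ) (E : DCoh.D X) :
    IsIso ((DCoh.Lpull U'.ι).map ((tau hsq.w L).app E)) ↔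
      IsIso ((tau (isPullback_restrict hsq U U' hU').w (fL (f ⁻¹ᵁ U).ι L)).app
        ((DCoh.Lpull (f ⁻¹ᵁ U).ι).obj E)) := by
  have hτ := (isPullback_morphismRestrict f' U').flip
  have hν := (isPullback_morphismRestrict f U).flip
  -- first decomposition
  have W₁ : ((f' ⁻¹ᵁ U').ι ≫ g') ≫ f = (f' ∣_ U') ≫ (U'.ι ≫ g) := by
    rw [Category.assoc, hsq.w, ← Category.assoc, hτ.w, Category.assoc]
  have p1 := tau_hpaste hsq.w hτ.w W₁ L E
  haveI := isIso_theta_of_isOpenImmersion hτ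
    ((DCoh.LTensorCx (fL g' L)).obj ((DCoh.Lpull g').obj E))
  haveI : IsIso ((tau hτ.w (fL g' L)).app ((DCoh.Lpull g').obj E)) := by
    rw [tau_app]
    infer_instance
  have i1 : IsIso ((tau W₁ L).app E) ↔ IsIso ((DCoh.Lpull U'.ι).map ((tau hsq.w L).app E)) := by
    rw [p1]
    exact isIso_mid_iff _ _ _
  -- second decomposition
  have hσ := isPullback_restrict hsq U U' hU'
  have W₂ : (gRes' hsq U U' hU' ≫ (f ⁻¹ᵁ U).ι) ≫ f = (f' ∣_ U') ≫ (g.resLE U U' hU' ≫ U.ι) := by
    rw [Category.assoc, hν.w, ← Category.assoc, hσ.w, Category.assoc]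
  have p2 := tau_hpaste hν.w hσ.w W₂ L E
  haveI := isIso_theta_of_isOpenImmersion hν ((DCoh.LTensorCx L).obj E)
  haveI : IsIso ((tau hν.w L).app E) := by
    rw [tau_app]
    infer_instance
  have i2 : IsIso ((tau W₂ L).app E) ↔
      IsIso ((tau hσ.w (fL (f ⁻¹ᵁ U).ι L)).app ((DCoh.Lpull (f ⁻¹ᵁ U).ι).obj E)) := by
    rw [p2, ← Category.assoc]
    exact isIso_mid_iff _ _ _
  have i3 : IsIso ((tau W₁ L).app E) ↔ IsIso ((tau W₂ L).app E) :=
    isIso_tau_congr (Scheme.Hom.resLE_comp_ι g hU').symm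
      (Scheme.Hom.resLE_comp_ι g' (preimage_le hsq U U' hU')).symm W₁ W₂ L E
  rw [← i1, i3, i2]

end Restricted

/-- **the twisted base change morphism is an isomorphism if it is so locally on the bases** -/
theorem isIso_tau_of_local (hsq : IsPullback g' f' f g) (L : CochainComplex X.Modules ℤ)
    (E : DCoh.D X)
    (h : ∀ y' : Y', ∃ (U : Y.Opens) (U' : Y'.Opens) (hU' : U' ≤ g ⁻¹ᵁ U), y' ∈ U' ∧
      IsIso ((tau (isPullback_restrict hsq U U' hU').w (fL (f ⁻¹ᵁ U).ι L)).app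
        ((DCoh.Lpull (f ⁻¹ᵁ U).ι).obj E))) :
    IsIso ((tau hsq.w L).app E) := by
  apply isIso_of_isIso_lpull_cover
  intro y'
  obtain ⟨U, U', hU', hy', hiso⟩ := h y'
  refine ⟨U', U'.ι, inferInstance, ?_, ?_⟩
  · simpa using hy'
  · exact (isIso_lpull_tau_iff hsq U U' hU' L E).2 hiso

end Groth.Agent.Lib.Helper5.TwBC
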