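import Mathlib
import Groth.Agent.Lib.Helper5.TwBC.Tau
import Groth.Agent.Lib.Helper5.ProjF3.LTenWT

/-!
# The projection formula morphism for a complex and its compatibility with base change (helper5)
-/
set_option autoImplicit false
set_option linter.unusedSectionVars false
set_option linter.unusedVariables false
set_option linter.style.haveILetI false
universe u
open CategoryTheory CategoryTheory.Limits AlgebraicGeometry
open Groth.Agent.Lib.Helper5.DerQ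
attribute [local instance] HasDerivedCategory.standard

namespace Groth.Agent.Lib.Helper5.TwBC

open Groth.Agent.Lib.Helper5.PullTenNat Groth.Agent.Lib.Helper5.ProjF
  Groth.Agent.Lib.Helper5.ProjF3 Groth.Agent.Lib.Helper5.ProjFX
  Groth.Agent.Lib.Helper5.LTenCongr Groth.Agent.Lib.Helper5.AssocD Groth.Agent.Lib.Helper5.BC
  Groth.Agent.Lib.Helper5.LpullLib

section PF

variable {W X : Scheme.{u}} (j : W ⟶ X) (L : CochainComplex X.Modules ℤ)

/-- the projection formula morphism `Rj_* M ⊗^L L ⟶ Rj_* (M ⊗^L j^* L)` -/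
noncomputable def pf :
    DCoh.Rpush j ⋙ DCoh.LTensorCx L ⟶ DCoh.LTensorCx (fL j L) ⋙ DCoh.Rpush j :=
  mateEquiv (adjL j) (adjL j) (eta j L)

/-- the adjunct of a component of the projection formula morphism -/
lemma homEquiv_symm_pf_app (A : DCoh.D W) :
    ((adjL j).homEquiv ((DCoh.LTensorCx L).obj ((DCoh.Rpush j).obj A))
      ((DCoh.LTensorCx (fL j L)).obj A)).symm ((pf j L).app A) =
      (eta j L).app ((DCoh.Rpush j).obj A) ≫
        (DCoh.LTensorCx (fL j L)).map ((adjL j).counit.app A) :=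
  homEquiv_symm_mateEquiv_app (adjL j) (adjL j) (eta j L) A

lemma lpull_pf_counit (A : DCoh.D W) :
    (DCoh.Lpull j).map ((pf j L).app A) ≫
        (adjL j).counit.app ((DCoh.LTensorCx (fL j L)).obj A) =
      (eta j L).app ((DCoh.Rpush j).obj A) ≫
        (DCoh.LTensorCx (fL j L)).map ((adjL j).counit.app A) := by
  rw [← homEquiv_symm_pf_app, Adjunction.homEquiv_counit]

lemma pf_eq_sigma (hL : DCoh.IsKFlat L) : pf j L = sigma j L hL := by
  unfold pf sigma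
  rw [lpullTenIso_hom_eq]

variable {L} in
/-- naturality of the projection formula morphism in the complex -/
theorem pf_naturality_cx {L' : CochainComplex X.Modules ℤ} (q : L ⟶ L') (A : DCoh.D W) :
    (ltenMap q).app ((DCoh.Rpush j).obj A) ≫ (pf j L').app A =
      (pf j L).app A ≫ (DCoh.Rpush j).map ((ltenMap ((pC j).map q)).app A) := by
  apply ((adjL j).homEquiv _ _).symm.injective
  rw [Adjunction.homEquiv_naturality_left_symm, Adjunction.homEquiv_naturality_right_symm,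
    homEquiv_symm_pf_app, homEquiv_symm_pf_app]
  have h1 : (DCoh.Lpull j).map ((ltenMap q).app ((DCoh.Rpush j).obj A)) ≫
      (eta j L').app ((DCoh.Rpush j).obj A) =
      (eta j L).app ((DCoh.Rpush j).obj A) ≫
        (ltenMap ((pC j).map q)).app ((DCoh.Lpull j).obj ((DCoh.Rpush j).obj A)) :=
    congrArg (fun t => t.app ((DCoh.Rpush j).obj A)) (eta_naturality_cx j q)
  have h2 := (ltenMap ((pC j).map q)).naturality ((adjL j).counit.app A)
  rw [reassoc_of% h1, Category.assoc]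
  congr 1
  exact h2.symm

/-- **the projection formula for a flat quasi-compact quasi-separated morphism and an arbitrary
complex with quasi-coherent cohomology** -/
theorem isIso_pf_app [Flat j] [QuasiCompact j] [QuasiSeparated j]
    (hL : DCoh.IsQCohD (DerivedCategory.Q.obj L)) (A : DCoh.D W) (hA : DCoh.IsQCohD A) :
    IsIso ((pf j L).app A) := by
  obtain ⟨P, p, hP, hp⟩ := kflat_res L
  haveI := hp
  haveI : IsIso (DerivedCategory.Q.map p) := (DerivedCategory.isIso_Q_map_iff_quasiIso _ p).2 hp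
  have hPQ : DCoh.IsQCohD (DerivedCategory.Q.obj P) :=
    Groth.Agent.Lib.Helper5.QC.isQCohD_of_iso (asIso (DerivedCategory.Q.map p)).symm hL
  have h := pf_naturality_cx j p A
  haveI i1 : IsIso (ltenMap p) := isIso_ltenMap p hp
  haveI hq : QuasiIso ((pC j).map p) := inferInstance
  haveI i2 : IsIso (ltenMap ((pC j).map p)) := isIso_ltenMap _ hq
  haveI i3 : IsIso ((pf j P).app A) := by
    rw [pf_eq_sigma j P hP]
    exact isIso_sigma_app j P hP hPQ A hA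
  have h4 : IsIso ((ltenMap p).app ((DCoh.Rpush j).obj A) ≫ (pf j L).app A) := by
    rw [h]
    infer_instance
  exact IsIso.of_isIso_comp_left ((ltenMap p).app ((DCoh.Rpush j).obj A)) _

end PF

section Square

variable {W X W' X' : Scheme.{u}} {j : W ⟶ X} {g' : X' ⟶ X} {j' : W' ⟶ X'} {ρ : W' ⟶ W}

/-- the adjunct of a component of the base change transformation -/
lemma homEquiv_symm_theta_app (w₂ : ρ ≫ j = j' ≫ g') (E : DCoh.D W) :
    ((adjL j').homEquiv ((DCoh.Lpull g').obj ((DCoh.Rpush j).obj E))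
      ((DCoh.Lpull ρ).obj E)).symm ((theta w₂).app E) =
      (beta w₂).hom.app ((DCoh.Rpush j).obj E) ≫ (DCoh.Lpull ρ).map ((adjL j).counit.app E) :=
  homEquiv_symm_mateEquiv_app (adjL j) (adjL j') (beta w₂).hom E

lemma lpull_theta_counit (w₂ : ρ ≫ j = j' ≫ g') (E : DCoh.D W) :
    (DCoh.Lpull j').map ((theta w₂).app E) ≫ (adjL j').counit.app ((DCoh.Lpull ρ).obj E) =
      (beta w₂).hom.app ((DCoh.Rpush j).obj E) ≫ (DCoh.Lpull ρ).map ((adjL j).counit.app E) := by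
  rw [← homEquiv_symm_theta_app, Adjunction.homEquiv_counit]

/-- the identification `j'^* g'^* L ≅ ρ^* j^* L` of a commutative square -/
noncomputable def kappa (w₂ : ρ ≫ j = j' ≫ g') (L : CochainComplex X.Modules ℤ) :
    (pC j').obj ((pC g').obj L) ≅ (pC ρ).obj ((pC j).obj L) :=
  pcIso' j' g' (j' ≫ g') rfl L ≪≫ (pcIso' ρ j (j' ≫ g') w₂ L).symm

lemma star_aux {C : Type*} [Category C] {A A₁ A₂ B₁ B₂ B₁₂ D D₁ D₂ : C} (c₁T : A₁ ≅ A)
    (c₂T : A₂ ≅ A) {x : A₂ ⟶ B₂} {y : A₁ ⟶ B₁} (l₂ : B₂ ≅ D₂) (t₂ : D₂ ≅ D) {l₁ : B₁ ⟶ D₁}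
    {t₁ : D₁ ⟶ D} {e : A ⟶ D} {Tβ : B₁ ⟶ B₁₂} {l₁' : B₁₂ ⟶ D₂}
    (P1 : x ≫ l₂.hom ≫ t₂.hom = c₂T.hom ≫ e) (P2 : y ≫ l₁ ≫ t₁ = c₁T.hom ≫ e)
    (N1 : Tβ ≫ l₁' = l₁ ≫ t₁ ≫ t₂.inv) :
    (c₁T.hom ≫ c₂T.inv) ≫ x = y ≫ Tβ ≫ l₁' ≫ l₂.inv := by
  have hx : x = c₂T.hom ≫ e ≫ t₂.inv ≫ l₂.inv := by
    rw [← reassoc_of% P1]
    simp
  rw [hx, reassoc_of% N1, reassoc_of% P2]
  simp

/-- **the comparison maps of a commutative square are compatible** -/
theorem eta_square (w₂ : ρ ≫ j = j' ≫ g') (L : CochainComplex X.Modules ℤ) (K : DCoh.D X) :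
    (beta w₂).hom.app ((DCoh.LTensorCx L).obj K) ≫
        ((DCoh.Lpull ρ).map ((eta j L).app K) ≫ (eta ρ (fL j L)).app ((DCoh.Lpull j).obj K)) =
      ((DCoh.Lpull j').map ((eta g' L).app K) ≫ (eta j' (fL g' L)).app ((DCoh.Lpull g').obj K)) ≫
        (DCoh.LTensorCx (fL j' (fL g' L))).map ((beta w₂).hom.app K) ≫
        (ltenMap (kappa w₂ L).hom).app ((DCoh.Lpull ρ).obj ((DCoh.Lpull j).obj K)) := by
  have P1 := eta_comp_app' (a := ρ) (b := j) L (j' ≫ g') w₂ K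
  have P2 := eta_comp_app' (a := j') (b := g') L (j' ≫ g') rfl K
  have hβ := fun E => beta_hom_app w₂ (j' ≫ g') rfl w₂ E
  have N1 : (DCoh.LTensorCx (fL j' (fL g' L))).map ((beta w₂).hom.app K) ≫
      (ltenMap (pcIso' j' g' (j' ≫ g') rfl L).hom).app
        ((DCoh.Lpull ρ).obj ((DCoh.Lpull j).obj K)) =
      (ltenMap (pcIso' j' g' (j' ≫ g') rfl L).hom).app
          ((DCoh.Lpull j').obj ((DCoh.Lpull g').obj K)) ≫
        (DCoh.LTensorCx (fL (j' ≫ g') L)).map ((cL' j' g' (j' ≫ g') rfl).hom.app K) ≫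
        ((DCoh.LTensorCx (fL (j' ≫ g') L)).mapIso ((cL' ρ j (j' ≫ g') w₂).app K)).inv := by
    have h := (ltenMap (pcIso' j' g' (j' ≫ g') rfl L).hom).naturality ((beta w₂).hom.app K)
    refine h.trans (congrArg (fun t => (ltenMap (pcIso' j' g' (j' ≫ g') rfl L).hom).app
          ((DCoh.Lpull j').obj ((DCoh.Lpull g').obj K)) ≫ t) ?_)
    rw [hβ K, Functor.map_comp]
    rfl
  have key := star_aux ((cL' j' g' (j' ≫ g') rfl).app ((DCoh.LTensorCx L).obj K))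
    ((cL' ρ j (j' ≫ g') w₂).app ((DCoh.LTensorCx L).obj K))
    ((ltenIso (pcIso' ρ j (j' ≫ g') w₂ L)).app ((DCoh.Lpull ρ).obj ((DCoh.Lpull j).obj K)))
    ((DCoh.LTensorCx (fL (j' ≫ g') L)).mapIso ((cL' ρ j (j' ≫ g') w₂).app K))
    (x := (DCoh.Lpull ρ).map ((eta j L).app K) ≫ (eta ρ (fL j L)).app ((DCoh.Lpull j).obj K))
    (y := (DCoh.Lpull j').map ((eta g' L).app K) ≫
      (eta j' (fL g' L)).app ((DCoh.Lpull g').obj K))
    (e := (eta (j' ≫ g') L).app K)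
    ((Category.assoc _ _ _).trans P1) ((Category.assoc _ _ _).trans P2) N1
  rw [hβ]
  refine key.trans ?_
  congr 2
  rw [kappa, Iso.trans_hom, ltenMap_comp]
  rfl

lemma pfbc_aux {C : Type*} [Category C] {Z0 Z1 Z2 Z3 Z4 Z5 Z6 Z7 Y1 Y2 Y3 Y4 Y5 Y6 V1 V2 V3 : C}
    {pa : Z0 ⟶ Z1} {βN : Z1 ⟶ Z2} {rc : Z2 ⟶ Z3} {ηρ : Z3 ⟶ Z4}
    {βT : Z0 ⟶ Z5} {rpf : Z5 ⟶ Z2} (a1 : pa ≫ βN = βT ≫ rpf)
    {rη : Z5 ⟶ Z6} {rtc : Z6 ⟶ Z3} (a2 : rpf ≫ rc = rη ≫ rtc)
    {ηρK : Z6 ⟶ Z7} {tt : Z7 ⟶ Z4} (a3 : rtc ≫ ηρ = ηρK ≫ tt)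
    {ld : Z0 ⟶ Y1} {le : Y1 ⟶ Y2} {ηp : Y2 ⟶ Y3} {tc : Y3 ⟶ Y4} {k : Y4 ⟶ Z4}
    {ηpK : Y1 ⟶ Y5} {tlθ : Y5 ⟶ Y3} (b1 : le ≫ ηp = ηpK ≫ tlθ)
    {tβ : Y5 ⟶ Y6} {tr : Y6 ⟶ Y4} (b2 : tlθ ≫ tc = tβ ≫ tr)
    {kK : Y6 ⟶ Z7} (b3 : tr ≫ k = kK ≫ tt)
    (star : βT ≫ (rη ≫ ηρK) = (ld ≫ ηpK) ≫ tβ ≫ kK)
    {lθ : Z1 ⟶ V1} {lrc : V1 ⟶ V2} {cu : V2 ⟶ Z4} {cuN : V1 ⟶ Z3}
    (c1 : lrc ≫ cu = cuN ≫ ηρ) (c2 : lθ ≫ cuN = βN ≫ rc)
    {lp : Y2 ⟶ V3} {lrk : V3 ⟶ V2} {cuA : V3 ⟶ Y4}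
    (c3 : lrk ≫ cu = cuA ≫ k) (c4 : lp ≫ cuA = ηp ≫ tc) :
    pa ≫ lθ ≫ lrc ≫ cu = ld ≫ le ≫ lp ≫ lrk ≫ cu := by
  simp only [Category.assoc] at star
  rw [c1, reassoc_of% c2, c3, reassoc_of% c4, reassoc_of% a1, reassoc_of% a2, a3,
    reassoc_of% b1, reassoc_of% b2, b3, reassoc_of% star]

/-- **the projection formula morphism is compatible with base change** -/
theorem pf_baseChange (w₂ : ρ ≫ j = j' ≫ g') (L : CochainComplex X.Modules ℤ) (M : DCoh.D W) :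
    (DCoh.Lpull g').map ((pf j L).app M) ≫ (theta w₂).app ((DCoh.LTensorCx (fL j L)).obj M) ≫
        (DCoh.Rpush j').map ((eta ρ (fL j L)).app M) =
      (eta g' L).app ((DCoh.Rpush j).obj M) ≫
        (DCoh.LTensorCx (fL g' L)).map ((theta w₂).app M) ≫
        (pf j' (fL g' L)).app ((DCoh.Lpull ρ).obj M) ≫
        (DCoh.Rpush j').map ((ltenMap (kappa w₂ L).hom).app ((DCoh.Lpull ρ).obj M)) := by
  apply ((adjL j').homEquiv _ _).symm.injective
  rw [Adjunction.homEquiv_counit, Adjunction.homEquiv_counit]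
  simp only [Functor.map_comp, Category.assoc]
  have c1 := (adjL j').counit.naturality ((eta ρ (fL j L)).app M)
  have c2 := lpull_theta_counit w₂ ((DCoh.LTensorCx (fL j L)).obj M)
  have c3 := (adjL j').counit.naturality
    ((ltenMap (kappa w₂ L).hom).app ((DCoh.Lpull ρ).obj M))
  have c4 := lpull_pf_counit j' (fL g' L) ((DCoh.Lpull ρ).obj M)
  have a1 := (beta w₂).hom.naturality ((pf j L).app M)
  have a2 : (DCoh.Lpull ρ).map ((DCoh.Lpull j).map ((pf j L).app M)) ≫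
      (DCoh.Lpull ρ).map ((adjL j).counit.app ((DCoh.LTensorCx (fL j L)).obj M)) =
      (DCoh.Lpull ρ).map ((eta j L).app ((DCoh.Rpush j).obj M)) ≫
        (DCoh.Lpull ρ).map ((DCoh.LTensorCx (fL j L)).map ((adjL j).counit.app M)) := by
    rw [← Functor.map_comp, lpull_pf_counit, Functor.map_comp]
  have a3 := ((eta ρ (fL j L)).naturality ((adjL j).counit.app M))
  have b1 := ((eta j' (fL g' L)).naturality ((theta w₂).app M))
  have b2 : (DCoh.LTensorCx (fL j' (fL g' L))).map ((DCoh.Lpull j').map ((theta w₂).app M)) ≫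
      (DCoh.LTensorCx (fL j' (fL g' L))).map ((adjL j').counit.app ((DCoh.Lpull ρ).obj M)) =
      (DCoh.LTensorCx (fL j' (fL g' L))).map ((beta w₂).hom.app ((DCoh.Rpush j).obj M)) ≫
        (DCoh.LTensorCx (fL j' (fL g' L))).map ((DCoh.Lpull ρ).map ((adjL j).counit.app M)) := by
    rw [← Functor.map_comp, lpull_theta_counit, Functor.map_comp]
  have b3 := ((ltenMap (kappa w₂ L).hom).naturality
    ((DCoh.Lpull ρ).map ((adjL j).counit.app M)))
  exact pfbc_aux a1 a2 a3 b1 b2 b3 (eta_square w₂ L ((DCoh.Rpush j).obj M)) c1 c2 c3 c4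

end Square

end Groth.Agent.Lib.Helper5.TwBC
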