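import Mathlib
import Groth.Agent.Lib.Helper5.TwBC.PF
import Groth.Agent.Lib.Helper5.BC.Step
import Groth.Agent.Lib.Helper5.BC.Induct

/-!
# Twisted base change: the vertical step and the reduction to affine opens (helper5)
-/
set_option autoImplicit false
set_option linter.unusedSectionVars false
set_option linter.unusedVariables false
set_option linter.style.haveILetI false
universe u
open CategoryTheory CategoryTheory.Limits AlgebraicGeometry Pretriangulated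
open Groth.Agent.Lib.Helper5.DerQ
attribute [local instance] HasDerivedCategory.standard

namespace Groth.Agent.Lib.Helper5.TwBC

open Groth.Agent.Lib.Helper5.PullTenNat Groth.Agent.Lib.Helper5.ProjF
  Groth.Agent.Lib.Helper5.ProjF3 Groth.Agent.Lib.Helper5.ProjFX
  Groth.Agent.Lib.Helper5.LTenCongr Groth.Agent.Lib.Helper5.AssocD Groth.Agent.Lib.Helper5.BC
  Groth.Agent.Lib.Helper5.LpullLib
open Groth.Agent.Lib.Helper5.MV Groth.Agent.Lib.Helper5.QC Helper5.Gen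
open Groth.Agent.Lib.Helper5.RpushPerf

variable {X Y X' Y' : Scheme.{u}} {f : X ⟶ Y} {g : Y' ⟶ Y} {f' : X' ⟶ Y'} {g' : X' ⟶ X}

section VStep

lemma vs_aux {C : Type*} [Category C] {B0 B1 B2 B3 B4 B5 B6 B7 B8 B9 : C}
    {θbig : B0 ⟶ B1} {lrc : B0 ⟶ B2} {θf : B2 ⟶ B3} {rθ : B3 ⟶ B4} {rci : B4 ⟶ B1}
    (hv : θbig = lrc ≫ θf ≫ rθ ≫ rci)
    {rbη : B1 ⟶ B5} {rrη : B4 ⟶ B6} {rci' : B6 ⟶ B5} (hn : rci ≫ rbη = rrη ≫ rci')
    {lpf : B7 ⟶ B2} {θfT : B7 ⟶ B8} {rlpf : B8 ⟶ B3} (hθ : lpf ≫ θf = θfT ≫ rlpf)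
    {rηg : B8 ⟶ B9} {rB : B9 ⟶ B6} (hpb : rlpf ≫ rθ ≫ rrη = rηg ≫ rB)
    {lrci : B2 ⟶ B0} (hinv : lrci ≫ lrc = 𝟙 _) :
    (lpf ≫ lrci) ≫ (θbig ≫ rbη) = (θfT ≫ rηg) ≫ rB ≫ rci' := by
  rw [hv]
  simp only [Category.assoc]
  rw [reassoc_of% hinv, hn, reassoc_of% hθ, reassoc_of% hpb]

/-- **vertical step for the twisted base change**: twisted base change for `Rj_* M`, `j : W ⟶ X`
an open, follows from twisted base change for `W` over the base, base change of `j` along `g'`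
and the projection formulas for `j` and its base change -/
theorem isIso_tau_rpush_of (hsq : IsPullback g' f' f g) (W : X.Opens)
    (L : CochainComplex X.Modules ℤ) (M : DCoh.D (W : Scheme.{u}))
    (hbig : IsIso ((tau (isPullback_big hsq W).w (fL W.ι L)).app M))
    (hρ : IsIso ((theta (isPullback_rho g' W).w).app M))
    (hpf : IsIso ((pf W.ι L).app M))
    (hpf' : IsIso ((pf (g' ⁻¹ᵁ W).ι (fL g' L)).app ((DCoh.Lpull (g' ∣_ W)).obj M))) :
    IsIso ((tau hsq.w L).app ((DCoh.Rpush W.ι).obj M)) := by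
  have w₂ := (isPullback_rho g' W).w
  have hv := theta_vpaste hsq.w (isPullback_rho g' W).w (isPullback_big hsq W).w
    ((DCoh.LTensorCx (fL W.ι L)).obj M)
  have hn := ((rC (g' ⁻¹ᵁ W).ι f').inv.naturality ((eta (g' ∣_ W) (fL W.ι L)).app M)).symm
  have hθ := (theta hsq.w).naturality ((pf W.ι L).app M)
  have hpb := congrArg (fun t => (DCoh.Rpush f').map t) (pf_baseChange w₂ L M)
  simp only [Functor.map_comp] at hpb
  have hinv : (DCoh.Lpull g).map ((rC W.ι f).inv.app ((DCoh.LTensorCx (fL W.ι L)).obj M)) ≫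
      (DCoh.Lpull g).map ((rC W.ι f).hom.app ((DCoh.LTensorCx (fL W.ι L)).obj M)) = 𝟙 _ := by
    rw [← Functor.map_comp, Iso.inv_hom_id_app, CategoryTheory.Functor.map_id]
  have key : ((DCoh.Lpull g).map ((DCoh.Rpush f).map ((pf W.ι L).app M)) ≫
        (DCoh.Lpull g).map ((rC W.ι f).inv.app ((DCoh.LTensorCx (fL W.ι L)).obj M))) ≫
      (tau (isPullback_big hsq W).w (fL W.ι L)).app M =
      (tau hsq.w L).app ((DCoh.Rpush W.ι).obj M) ≫
      ((DCoh.Rpush f').map ((DCoh.LTensorCx (fL g' L)).map ((theta w₂).app M)) ≫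
        (DCoh.Rpush f').map ((pf (g' ⁻¹ᵁ W).ι (fL g' L)).app ((DCoh.Lpull (g' ∣_ W)).obj M)) ≫
        (DCoh.Rpush f').map ((DCoh.Rpush (g' ⁻¹ᵁ W).ι).map
          ((ltenMap (kappa w₂ L).hom).app ((DCoh.Lpull (g' ∣_ W)).obj M)))) ≫
      (rC (g' ⁻¹ᵁ W).ι f').inv.app _ := by
    rw [tau_app, tau_app]
    exact vs_aux hv hn hθ hpb hinv
  haveI := hbig
  haveI := hρ
  haveI := hpf
  haveI := hpf'
  have h1 : IsIso ((tau hsq.w L).app ((DCoh.Rpush W.ι).obj M) ≫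
      ((DCoh.Rpush f').map ((DCoh.LTensorCx (fL g' L)).map ((theta w₂).app M)) ≫
        (DCoh.Rpush f').map ((pf (g' ⁻¹ᵁ W).ι (fL g' L)).app ((DCoh.Lpull (g' ∣_ W)).obj M)) ≫
        (DCoh.Rpush f').map ((DCoh.Rpush (g' ⁻¹ᵁ W).ι).map
          ((ltenMap (kappa w₂ L).hom).app ((DCoh.Lpull (g' ∣_ W)).obj M)))) ≫
      (rC (g' ⁻¹ᵁ W).ι f').inv.app _) := by
    rw [← key]
    infer_instance
  exact IsIso.of_isIso_comp_right _
    (((DCoh.Rpush f').map ((DCoh.LTensorCx (fL g' L)).map ((theta w₂).app M)) ≫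
        (DCoh.Rpush f').map ((pf (g' ⁻¹ᵁ W).ι (fL g' L)).app ((DCoh.Lpull (g' ∣_ W)).obj M)) ≫
        (DCoh.Rpush f').map ((DCoh.Rpush (g' ⁻¹ᵁ W).ι).map
          ((ltenMap (kappa w₂ L).hom).app ((DCoh.Lpull (g' ∣_ W)).obj M)))) ≫
      (rC (g' ⁻¹ᵁ W).ι f').inv.app _)

end VStep

section Induct

variable (L : CochainComplex X.Modules ℤ)

lemma coyExact_tau_src (f : X ⟶ Y) (g : Y' ⟶ Y) :
    CoyExact ((DCoh.LTensorCx L ⋙ DCoh.Rpush f) ⋙ DCoh.Lpull g) :=
  (((weakTri_LTensorCx L).comp (weakTri_rpush f)).comp (weakTri_lpull g)).coyExact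

lemma coyExact_tau_tgt (f' : X' ⟶ Y') (g' : X' ⟶ X) :
    CoyExact (G₂ g' L ⋙ DCoh.Rpush f') :=
  (((weakTri_lpull g').comp (weakTri_LTensorCx (fL g' L))).comp (weakTri_rpush f')).coyExact

/-- the iso locus of the twisted base change transformation is a triangulated subcategory -/
instance (w : g' ≫ f = f' ≫ g) : (isoLocus (tau w L)).IsTriangulated :=
  isoLocus_isTriangulated (tau w L) (coyExact_tau_src L f g) (coyExact_tau_tgt L f' g')

lemma isoLocus_tau_biprod (w : g' ≫ f = f' ≫ g) (A B : DCoh.D X) (hA : isoLocus (tau w L) A)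
    (hB : isoLocus (tau w L) B) : isoLocus (tau w L) (A ⊞ B) :=
  (isoLocus (tau w L)).ext_of_isTriangulatedClosed₂ _ (binaryBiproductTriangle_distinguished A B)
    hA hB

/-- Mayer–Vietoris step -/
lemma isoLocus_tau_of_mv (w : g' ≫ f = f' ≫ g) {A B₁ B₂ C : DCoh.D X} (a : A ⟶ B₁ ⊞ B₂)
    (b : B₁ ⊞ B₂ ⟶ C) (c : C ⟶ A⟦(1 : ℤ)⟧) (hT : Triangle.mk a b c ∈ distTriang (DCoh.D X))
    (h₁ : isoLocus (tau w L) B₁) (h₂ : isoLocus (tau w L) B₂) (h₃ : isoLocus (tau w L) C) :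
    isoLocus (tau w L) A :=
  (isoLocus (tau w L)).ext_of_isTriangulatedClosed₁ _ hT (isoLocus_tau_biprod L w B₁ B₂ h₁ h₂) h₃

/-- **reduction to affine opens of the source** -/
theorem isIso_tau_of_affine_opens (w : g' ≫ f = f' ≫ g) [CompactSpace X]
    [QuasiSeparatedSpace X] (E : DCoh.D X)
    (h : ∀ W : X.Opens, IsAffineOpen W →
      isoLocus (tau w L) ((DCoh.Rpush W.ι).obj ((DCoh.restrictD W.ι).obj E))) :
    IsIso ((tau w L).app E) := by
  have hP : ∀ V : X.Opens, IsCompact (V : Set X) →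
      isoLocus (tau w L) ((DCoh.Rpush V.ι).obj ((DCoh.restrictD V.ι).obj E)) := by
    intro V hV
    refine qcqs_induction
      (fun V : X.Opens => isoLocus (tau w L) ((DCoh.Rpush V.ι).obj ((DCoh.restrictD V.ι).obj E)))
      h ?_ V hV
    intro T U V W D hU hV hW
    obtain ⟨a, b, c, hT⟩ := exists_mv_triangle (𝟙 X) D T.ι U.ι V.ι W.ι
      (Category.comp_id _).symm (Category.comp_id _).symm (Category.comp_id _).symm
      (Category.comp_id _).symm E
    exact isoLocus_tau_of_mv L w a b c hT hU hV hW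
  have htop := hP ⊤ isCompact_univ
  have hbot := hP ⊥ (by simp)
  obtain ⟨a, b, c, hT⟩ := exists_mv_triangle_id (U := (⊤ : X.Opens)) (V := (⊥ : X.Opens))
    (W := (⊥ : X.Opens)) ⟨le_rfl, bot_le, le_sup_left, bot_le, le_rfl, inf_le_right⟩ E
  exact isoLocus_app _ _ (isoLocus_tau_of_mv L w a b c hT htop hbot hbot)

end Induct

end Groth.Agent.Lib.Helper5.TwBC
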