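import Mathlib
import Groth.Agent.Lib.Helper5.TwBC.VInd
import Groth.Agent.Lib.Helper5.TwBC.RingKF
import Groth.Agent.Lib.Helper5.BC.FlatLeft
import Groth.Agent.Lib.Helper5.BC.KapGen
import Groth.Agent.Lib.Helper5.HTor.TildeTen
import Groth.Agent.Lib.Helper7.NoethApprox.Aff
import Groth.Agent.Lib.Lead.FO1
import Groth.Agent.Lib.Helper5.RpushPerf.ConcSh

/-!
# Twisted base change: the affine case (helper5)
-/
set_option autoImplicit false
set_option linter.unusedSectionVars false
set_option linter.unusedVariables false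
set_option linter.style.haveILetI false
universe u
open CategoryTheory CategoryTheory.Limits AlgebraicGeometry MonoidalCategory
open Groth.Agent.Lib.Helper5.DerQ
attribute [local instance] HasDerivedCategory.standard

namespace Groth.Agent.Lib.Helper5.TwBC

open Groth.Agent.Lib.Helper5.PullTenNat Groth.Agent.Lib.Helper5.ProjF
  Groth.Agent.Lib.Helper5.ProjF3 Groth.Agent.Lib.Helper5.ProjFX
  Groth.Agent.Lib.Helper5.LTenCongr Groth.Agent.Lib.Helper5.AssocD Groth.Agent.Lib.Helper5.BC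
  Groth.Agent.Lib.Helper5.LpullLib
open Groth.Agent.Lib.Helper5.MV Groth.Agent.Lib.Helper5.QC Helper5.Gen Helper5.KInj
open Groth.Agent.Lib.Helper5.RpushPerf Groth.Agent.Helper1 Groth.Agent.Helper3.KInjDer
open Groth.Agent.Lib.Helper5.KSixLT

section General

variable {X Y X' Y' : Scheme.{u}} {f : X ⟶ Y} {g : Y' ⟶ Y} {f' : X' ⟶ Y'} {g' : X' ⟶ X}

/-- base change for an affine morphism composed with the pullback comparison map, on a complex
with quasi-coherent terms whose pushforward is acyclic for `Lg^*` -/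
theorem isIso_theta_kap_of (hsq : IsPullback g' f' f g) [IsAffineHom f]
    (C : CochainComplex X.Modules ℤ) (hC : ∀ i, (C.X i).IsQuasicoherent)
    (i3 : IsIso (kap g ((pushK f).obj
      ((HomotopyCategory.quotient X.Modules (ComplexShape.up ℤ)).obj C)))) :
    IsIso ((theta hsq.w).app (DerivedCategory.Q.obj C) ≫
      (DCoh.Rpush f').map ((lpullβ g').app C)) := by
  haveI : IsAffineHom f' := MorphismProperty.of_isPullback hsq inferInstance
  let U := (HomotopyCategory.quotient X.Modules (ComplexShape.up ℤ)).obj C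
  have hstar := theta_Qh hsq.w U
  haveI i1 : IsIso (rho f U) := isIso_rho_of_isQuasicoherent f C hC
  haveI i3' : IsIso (kap g ((pushK f).obj U)) := i3
  haveI i4 : IsIso (rho f' ((pullK g').obj U)) := by
    refine isIso_rho_of_isQuasicoherent f'
      (((Scheme.Modules.pullback g').mapHomologicalComplex (ComplexShape.up ℤ)).obj C) (fun i => ?_)
    haveI := hC i
    exact QcPullGen.isQuasicoherent_pullback g' (C.X i)
  haveI i5 : IsIso (DerivedCategory.Qh.map ((bcK hsq.w).app U)) := by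
    rw [bcK_app_quotient hsq.w C]
    haveI : IsIso (bcC hsq.w C) := by
      haveI : ∀ n, IsIso ((bcC hsq.w C).f n) := fun n => by
        haveI := hC n
        rw [bcC_f]
        exact isIso_bcM_app hsq (C.X n)
      exact HomologicalComplex.Hom.isIso_of_components _
    exact inferInstanceAs (IsIso (DerivedCategory.Q.map (bcC hsq.w C)))
  have h6 : IsIso ((DCoh.Lpull g).map (rho f U) ≫ (theta hsq.w).app (DerivedCategory.Qh.obj U) ≫
        (DCoh.Rpush f').map (kap g' U)) := by
    rw [hstar]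
    infer_instance
  have h6' : IsIso ((DCoh.Lpull g).map (rho f U) ≫
      ((theta hsq.w).app (DerivedCategory.Q.obj C) ≫
        (DCoh.Rpush f').map ((lpullβ g').app C))) := h6
  exact @IsIso.of_isIso_comp_left _ _ _ _ _ ((DCoh.Lpull g).map (rho f U)) _ inferInstance h6'

lemma isIso_γ₂_app {X Y : Scheme.{u}} (f : X ⟶ Y) (L J : CochainComplex Y.Modules ℤ)
    (hJ : DCoh.IsKFlat J) : IsIso ((γ₂ f L).app J) := by
  rw [γ₂_app]
  haveI : IsIso ((lpullβ f).app J) := isIso_lpullβ_app' f J hJ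
  haveI : IsIso ((ε (fL f L)).app ((pC f).obj J)) :=
    isIso_counit_app (Groth.Agent.Lib.Helper5.LTenAll.adaptedQ_tensorCxQ (fL f L))
      (DCoh.LTensorCx (fL f L)) _ _
      (Groth.Agent.Lib.Helper5.KFlatPull.isKFlat_pullback f _ hJ)
  infer_instance

lemma aff_aux {C : Type*} [Category C] {B0 B1 B2 B3 B4 B5 B6 : C}
    {θT : B0 ⟶ B1} {rη : B1 ⟶ B2} {rγ₂ : B2 ⟶ B3} {rlε : B1 ⟶ B4} {rβ : B4 ⟶ B5} {rδ : B5 ⟶ B3}
    {lrε : B0 ⟶ B6} {θC : B6 ⟶ B4}
    (hfac : rη ≫ rγ₂ = rlε ≫ rβ ≫ rδ) (hθ : lrε ≫ θC = θT ≫ rlε) :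
    (θT ≫ rη) ≫ rγ₂ = lrε ≫ (θC ≫ rβ) ≫ rδ := by
  simp only [Category.assoc]
  rw [hfac, reassoc_of% hθ]

/-- **the twisted base change morphism at a K-flat complex `N`**, for an affine morphism, when
`N ⊗ L` has quasi-coherent terms and `f_* (N ⊗ L)` is acyclic for `Lg^*` -/
theorem isIso_tau_app_Q_of (hsq : IsPullback g' f' f g) [IsAffineHom f]
    (L N : CochainComplex X.Modules ℤ) (hN : DCoh.IsKFlat N)
    (hC : ∀ i, (((DCoh.tensorCx.obj N).obj L).X i).IsQuasicoherent)
    (hK : DCoh.IsKFlat (((Scheme.Modules.pushforward f).mapHomologicalComplex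
      (ComplexShape.up ℤ)).obj ((DCoh.tensorCx.obj N).obj L))) :
    IsIso ((tau hsq.w L).app (DerivedCategory.Q.obj N)) := by
  have hfac := eta_fac g' L N
  rw [γ₁_app] at hfac
  have hfac' := congrArg (fun t => (DCoh.Rpush f').map t) hfac
  simp only [Functor.map_comp, Category.assoc] at hfac'
  have hθ := (theta hsq.w).naturality ((ε L).app N)
  have key : (tau hsq.w L).app (DerivedCategory.Q.obj N) ≫
      (DCoh.Rpush f').map ((γ₂ g' L).app N) =
      (DCoh.Lpull g).map ((DCoh.Rpush f).map ((ε L).app N)) ≫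
        ((theta hsq.w).app (DerivedCategory.Q.obj ((DCoh.tensorCx.obj N).obj L)) ≫
          (DCoh.Rpush f').map ((lpullβ g').app ((DCoh.tensorCx.obj N).obj L))) ≫
        (DCoh.Rpush f').map (DerivedCategory.Q.map (deltaCxIso g' N L).hom) := by
    rw [tau_app]
    exact aff_aux hfac' hθ
  haveI i1 : IsIso ((γ₂ g' L).app N) := isIso_γ₂_app g' L N hN
  haveI i2 : IsIso ((ε L).app N) :=
    isIso_counit_app (Groth.Agent.Lib.Helper5.LTenAll.adaptedQ_tensorCxQ L)
      (DCoh.LTensorCx L) _ N hN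
  haveI i3 := isIso_theta_kap_of hsq ((DCoh.tensorCx.obj N).obj L) hC
    (isIso_kap_of_isKFlat g _ hK)
  have h4 : IsIso ((tau hsq.w L).app (DerivedCategory.Q.obj N) ≫
      (DCoh.Rpush f').map ((γ₂ g' L).app N)) := by
    rw [key]
    infer_instance
  exact IsIso.of_isIso_comp_right _ ((DCoh.Rpush f').map ((γ₂ g' L).app N))

end General

section Affine

variable {X Y : Scheme.{u}} [IsAffine X] [IsAffine Y] (f : X ⟶ Y)
  (G : X.Modules) [G.IsQuasicoherent] (hfl : FlatMod.IsFlatOver f G)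

/-- the module of global sections -/
noncomputable abbrev secMod : ModuleCat.{u} Γ(X, ⊤) := ModuleCat.of Γ(X, ⊤) Γ(G, ⊤)

include hfl in
/-- the global sections of a module flat over an affine base are flat over the ring of the base -/
theorem flat_secMod :
    Module.Flat Γ(Y, ⊤) ((ModuleCat.restrictScalars f.appTop.hom).obj (secMod G)) := by
  have hUV : (⊤ : X.Opens) ≤ f ⁻¹ᵁ ⊤ := le_top
  have h := Groth.Agent.Lead.FO.flat_sectionsOver_of_isFlatOverAt f G (isAffineOpen_top X)
    (isAffineOpen_top Y) hUV (fun z => hfl z.1)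
  have heq : f.appLE ⊤ ⊤ hUV = f.appTop := by
    simp [Scheme.Hom.appLE]
  unfold Groth.Agent.Lead.FO.sectionsOver at h
  rw [heq] at h
  exact h

/-- the standard twisting complex on an affine scheme -/
noncomputable abbrev twCx : CochainComplex X.Modules ℤ :=
  (pC X.isoSpec.hom).obj ((tCx Γ(X, ⊤)).obj (S (secMod G)))

/-- a quasi-coherent module in degree `0` is the standard twisting complex -/
noncomputable def sCxIsoTwCx : sCx G ≅ twCx G :=
  (HomologicalComplex.single X.Modules (ComplexShape.up ℤ) 0).mapIso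
      (Groth.Agent.Helper7.NoethApprox.isoPullbackTilde G) ≪≫
    ((HomologicalComplex.singleMapHomologicalComplex (Scheme.Modules.pullback X.isoSpec.hom)
      (ComplexShape.up ℤ) 0).app _).symm ≪≫
    (pC X.isoSpec.hom).mapIso
      ((HomologicalComplex.singleMapHomologicalComplex (tilde.functor Γ(X, ⊤))
        (ComplexShape.up ℤ) 0).app (secMod G)).symm

variable (M : CochainComplex (ModuleCat.{u} Γ(X, ⊤)) ℤ)

/-- the standard K-flat representative -/
noncomputable abbrev stdCx : CochainComplex X.Modules ℤ :=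
  (pC X.isoSpec.hom).obj ((tCx Γ(X, ⊤)).obj M)

/-- `N ⊗ L` for the standard complexes is the pullback of a tilde -/
noncomputable def tensorStdIso :
    (DCoh.tensorCx.obj (stdCx M)).obj (twCx G) ≅
      (pC X.isoSpec.hom).obj ((tCx Γ(X, ⊤)).obj (M ⊗ S (secMod G))) :=
  (deltaCxIso X.isoSpec.hom ((tCx Γ(X, ⊤)).obj M) ((tCx Γ(X, ⊤)).obj (S (secMod G)))).symm ≪≫
    (pC X.isoSpec.hom).mapIso
      (Groth.Agent.Lib.Helper5.HTorLib.tildeTotIso Γ(X, ⊤) M (S (secMod G))).symm

lemma isQuasicoherent_stdCx_X (W : CochainComplex (ModuleCat.{u} Γ(X, ⊤)) ℤ) (n : ℤ) :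
    ((stdCx W).X n).IsQuasicoherent := by
  haveI : (((tCx Γ(X, ⊤)).obj W).X n).IsQuasicoherent :=
    (inferInstance : ((tilde.functor Γ(X, ⊤)).obj (W.X n)).IsQuasicoherent)
  exact QcPullGen.isQuasicoherent_pullback X.isoSpec.hom (((tCx Γ(X, ⊤)).obj W).X n)

include hfl in
/-- the pushforward of `N ⊗ L` is K-flat on the base -/
theorem isKFlat_pushC_tensorStd (hM : DRing.IsKFlat Γ(X, ⊤) M) :
    DCoh.IsKFlat (((Scheme.Modules.pushforward f).mapHomologicalComplex (ComplexShape.up ℤ)).obj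
      ((DCoh.tensorCx.obj (stdCx M)).obj (twCx G))) := by
  have h1 : DRing.IsKFlat Γ(Y, ⊤) ((DTen.resCx f.appTop.hom).obj (M ⊗ S (secMod G))) :=
    isKFlat_resCx_tensor f.appTop.hom M (S (secMod G)) hM
      (isKFlat_resCx_single f.appTop.hom (secMod G) (flat_secMod f G hfl))
  have h2 := Groth.Agent.Lib.Helper5.TildeStalk.isKFlat_tilde Γ(Y, ⊤) _ h1
  have h3 : DCoh.IsKFlat (((Scheme.Modules.pushforward (specMap' f.appTop)).mapHomologicalComplex
      (ComplexShape.up ℤ)).obj ((tCx Γ(X, ⊤)).obj (M ⊗ S (secMod G)))) :=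
    Groth.Agent.Lib.Helper5.PerfTensor.isKFlat_of_iso
      ((tildePushCxIso f.appTop).app (M ⊗ S (secMod G))).symm h2
  have h4 := isKFlat_pushC_pullCx (isPullback_isoSpec f) ((tCx Γ(X, ⊤)).obj (M ⊗ S (secMod G)))
    (fun n => (inferInstance :
      ((tilde.functor Γ(X, ⊤)).obj ((M ⊗ S (secMod G)).X n)).IsQuasicoherent)) h3
  exact Groth.Agent.Lib.Helper5.PerfTensor.isKFlat_of_iso
    (((Scheme.Modules.pushforward f).mapHomologicalComplex (ComplexShape.up ℤ)).mapIso
      (tensorStdIso G M).symm) h4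

variable {Y' X' : Scheme.{u}} {g : Y' ⟶ Y} {f' : X' ⟶ Y'} {g' : X' ⟶ X} {f}

include hfl in
/-- **twisted base change in the affine case** -/
theorem isIso_tau_of_affine (hsq : IsPullback g' f' f g) (L : CochainComplex X.Modules ℤ)
    (eL : L ≅ sCx G) (E : DCoh.D X) (hE : DCoh.IsQCohD E) :
    IsIso ((tau hsq.w L).app E) := by
  rw [isIso_tau_iff_of_iso hsq.w (eL ≪≫ sCxIsoTwCx G) E]
  obtain ⟨M, hM, ⟨e⟩⟩ := exists_kflat_repr X E hE
  refine Helper5.Gen.isIso_app_of_iso _ e.symm ?_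
  have hN : DCoh.IsKFlat (stdCx M) :=
    Groth.Agent.Lib.Helper5.KFlatPull.isKFlat_pullback X.isoSpec.hom _
      (Groth.Agent.Lib.Helper5.TildeStalk.isKFlat_tilde Γ(X, ⊤) M hM)
  refine isIso_tau_app_Q_of hsq (twCx G) (stdCx M) hN (fun n => ?_)
    (isKFlat_pushC_tensorStd f G hfl M hM)
  haveI : ((HomologicalComplex.eval X.Modules (ComplexShape.up ℤ) n).obj
      ((pC X.isoSpec.hom).obj ((tCx Γ(X, ⊤)).obj (M ⊗ S (secMod G))))).IsQuasicoherent :=
    isQuasicoherent_stdCx_X (M ⊗ S (secMod G)) n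
  exact QcAbel.isQuasicoherent_of_iso
    ((HomologicalComplex.eval _ _ n).mapIso (tensorStdIso G M)).symm

end Affine

end Groth.Agent.Lib.Helper5.TwBC
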