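import Mathlib
import Groth.Prelude.Def_FlatMod2
import Groth.Agent.Lib.Helper7.CohStalk.QCoh
import Groth.Agent.Lib.Helper4.ChartSq1

/-!
# Flatness over a base is local on the source (helper5)
-/
set_option autoImplicit false
set_option linter.unusedSectionVars false
set_option linter.unusedVariables false
set_option linter.style.haveILetI false
universe u
open CategoryTheory CategoryTheory.Limits AlgebraicGeometry

namespace Groth.Agent.Lib.Helper5.TwBC

open Groth.Agent.Helper7.FinType

variable {W X Y : Scheme.{u}} (j : W ⟶ X) [IsOpenImmersion j] (f : X ⟶ Y) (G : X.Modules) (x : W)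

/-- the comparison of stalks along an open immersion is semilinear for the stalk map -/
theorem restrictStalkIso_stalkMap_smul (s : X.presheaf.stalk (j x))
    (a : (G.restrict j).presheaf.stalk x) :
    (restrictStalkIso j G x).hom ((j.stalkMap x).hom s • a) =
      s • (restrictStalkIso j G x).hom a := by
  obtain ⟨V, hV, t, rfl⟩ := TopCat.Presheaf.exists_germ_eq X.presheaf s
  have h1 : (j.stalkMap x).hom (X.presheaf.germ V (j x) hV t) =
      W.presheaf.germ (j ⁻¹ᵁ V) x hV ((j.app V).hom t) :=
    Scheme.Hom.germ_stalkMap_apply j V x hV t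
  rw [h1, restrictStalkIso_germ_smul]
  congr 1
  have h3 := ConcreteCategory.congr_hom (Scheme.Hom.app_appIso_inv j V) t
  rw [ConcreteCategory.comp_apply] at h3
  erw [h3]
  exact TopCat.Presheaf.germ_res_apply X.presheaf _ (j x) _ t

/-- **flatness over the base passes to open subschemes of the source** -/
theorem isFlatOverAt_restrict_comp (h : FlatMod.IsFlatOverAt f G (j x)) :
    FlatMod.IsFlatOverAt (j ≫ f) (G.restrict j) x := by
  unfold FlatMod.IsFlatOverAt at h ⊢
  letI m1 : Module (Y.presheaf.stalk ((j ≫ f).base x)) (G.presheaf.stalk (j x)) :=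
    FlatMod.moduleStalkOver f G (j x)
  haveI h' : Module.Flat (Y.presheaf.stalk ((j ≫ f).base x)) (G.presheaf.stalk (j x)) := h
  letI m2 := FlatMod.moduleStalkOver (j ≫ f) (G.restrict j) x
  let e := restrictStalkIso j G x
  let E : (G.restrict j).presheaf.stalk x ≃ₗ[Y.presheaf.stalk ((j ≫ f).base x)]
      G.presheaf.stalk (j x) :=
    { toFun := e.hom
      invFun := e.inv
      map_add' := fun a b => map_add _ a b
      map_smul' := fun r a => by
        have h2 : ((j ≫ f).stalkMap x).hom r = (j.stalkMap x).hom ((f.stalkMap (j x)).hom r) := by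
          rw [Scheme.Hom.stalkMap_comp]
          rfl
        change e.hom (((j ≫ f).stalkMap x).hom r • a) = (f.stalkMap (j x)).hom r • e.hom a
        rw [h2]
        exact restrictStalkIso_stalkMap_smul j G x _ a
      left_inv := fun a => ConcreteCategory.congr_hom e.hom_inv_id a
      right_inv := fun a => ConcreteCategory.congr_hom e.inv_hom_id a }
  exact Module.Flat.of_linearEquiv E

/-- **flatness over the base passes to open subschemes of the source**, pullback form -/
theorem isFlatOver_pullback_comp (h : FlatMod.IsFlatOver f G) :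
    FlatMod.IsFlatOver (j ≫ f) ((Scheme.Modules.pullback j).obj G) := by
  intro x
  exact Groth.Agent.Lib.Helper4.ChartSq1.isFlatOverAt_of_iso (j ≫ f)
    ((Scheme.Modules.restrictFunctorIsoPullback j).app G) x
    (isFlatOverAt_restrict_comp j f G x (h (j x)))

end Groth.Agent.Lib.Helper5.TwBC
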