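import Mathlib
import Groth.Agent.Lib.Helper5.TwBC.Aff
import Groth.Agent.Lib.Helper5.TwBC.FlatOpen
import Groth.Agent.Lib.Lead.FB1
import Groth.Agent.Lib.Helper5.BC.Levels
import Groth.Agent.Lib.Helper5.RHomQC.Main

/-!
# Twisted base change for a quasi-coherent module flat over the base (helper5)
-/
set_option autoImplicit false
set_option linter.unusedSectionVars false
set_option linter.unusedVariables false
set_option linter.style.haveILetI false
universe u
open CategoryTheory CategoryTheory.Limits AlgebraicGeometry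
open Groth.Agent.Lib.Helper5.DerQ
attribute [local instance] HasDerivedCategory.standard

namespace Groth.Agent.Lib.Helper5.TwBC

open Groth.Agent.Lib.Helper5.PullTenNat Groth.Agent.Lib.Helper5.ProjF
  Groth.Agent.Lib.Helper5.ProjF3 Groth.Agent.Lib.Helper5.ProjFX
  Groth.Agent.Lib.Helper5.LTenCongr Groth.Agent.Lib.Helper5.AssocD Groth.Agent.Lib.Helper5.BC
  Groth.Agent.Lib.Helper5.LpullLib
open Groth.Agent.Lib.Helper5.MV Groth.Agent.Lib.Helper5.QC Helper5.Gen
open Groth.Agent.Lib.Helper5.RpushPerf Groth.Agent.Helper1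

/-- the class of twisting complexes: a quasi-coherent module flat over the base, in degree `0` -/
def GoodTw {X Y : Scheme.{u}} (f : X ⟶ Y) (L : CochainComplex X.Modules ℤ) : Prop :=
  ∃ G : X.Modules, G.IsQuasicoherent ∧ FlatMod.IsFlatOver f G ∧ Nonempty (L ≅ sCx G)

/-- the pullback of a module in degree `0` -/
noncomputable def pCsCxIso {X' X : Scheme.{u}} (h : X' ⟶ X) (G : X.Modules) :
    (pC h).obj (sCx G) ≅ sCx ((Scheme.Modules.pullback h).obj G) :=
  (HomologicalComplex.singleMapHomologicalComplex (Scheme.Modules.pullback h)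
    (ComplexShape.up ℤ) 0).app G

lemma isQCohD_sCx {X : Scheme.{u}} (G : X.Modules) [G.IsQuasicoherent] :
    DCoh.IsQCohD (DerivedCategory.Q.obj (sCx G)) :=
  isQCohD_of_iso ((DerivedCategory.singleFunctorIsoCompQ X.Modules 0).app G)
    (Groth.Agent.Lib.Helper5.RHomQC.isQCohD_single G 0)

section Class

variable {X Y : Scheme.{u}} {f : X ⟶ Y} {L : CochainComplex X.Modules ℤ}

lemma goodTw_isQCohD (h : GoodTw f L) : DCoh.IsQCohD (DerivedCategory.Q.obj L) := by
  obtain ⟨G, hG, -, ⟨e⟩⟩ := h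
  haveI := hG
  exact isQCohD_of_iso (DerivedCategory.Q.mapIso e.symm) (isQCohD_sCx G)

lemma goodTw_pullback_isQCohD {X' : Scheme.{u}} (h : X' ⟶ X) (hL : GoodTw f L) :
    DCoh.IsQCohD (DerivedCategory.Q.obj (fL h L)) := by
  obtain ⟨G, hG, -, ⟨e⟩⟩ := hL
  haveI := hG
  haveI : ((Scheme.Modules.pullback h).obj G).IsQuasicoherent :=
    QcPullGen.isQuasicoherent_pullback h G
  exact isQCohD_of_iso (DerivedCategory.Q.mapIso ((pC h).mapIso e ≪≫ pCsCxIso h G).symm)
    (isQCohD_sCx _)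

lemma goodTw_open (W : X.Opens) (hL : GoodTw f L) : GoodTw (W.ι ≫ f) (fL W.ι L) := by
  obtain ⟨G, hG, hfl, ⟨e⟩⟩ := hL
  haveI := hG
  exact ⟨(Scheme.Modules.pullback W.ι).obj G, QcPullGen.isQuasicoherent_pullback W.ι G,
    isFlatOver_pullback_comp W.ι f G hfl, ⟨(pC W.ι).mapIso e ≪≫ pCsCxIso W.ι G⟩⟩

lemma goodTw_restrict (U : Y.Opens) (hL : GoodTw f L) :
    GoodTw (f ∣_ U) (fL (f ⁻¹ᵁ U).ι L) := by
  obtain ⟨G, hG, hfl, ⟨e⟩⟩ := hL
  haveI := hG
  have hν := (isPullback_morphismRestrict f U).flip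
  exact ⟨(Scheme.Modules.pullback (f ⁻¹ᵁ U).ι).obj G,
    QcPullGen.isQuasicoherent_pullback (f ⁻¹ᵁ U).ι G,
    fun x => Groth.Agent.Lead.FB.flat_baseChange hν G x (hfl _),
    ⟨(pC (f ⁻¹ᵁ U).ι).mapIso e ≪≫ pCsCxIso (f ⁻¹ᵁ U).ι G⟩⟩

end Class

variable {X Y X' Y' : Scheme.{u}} {f : X ⟶ Y} {g : Y' ⟶ Y} {f' : X' ⟶ Y'} {g' : X' ⟶ X}

/-- twisted base change over affine bases -/
theorem isIso_tau_of_affine_base (hsq : IsPullback g' f' f g) [IsAffine Y] [IsAffine Y']
    [CompactSpace X] [QuasiSeparatedSpace X] (L : CochainComplex X.Modules ℤ) (hL : GoodTw f L)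
    (E : DCoh.D X) (hE : DCoh.IsQCohD E) : IsIso ((tau hsq.w L).app E) := by
  apply isIso_tau_of_affine_opens L hsq.w E
  intro W hW n
  obtain ⟨e⟩ := weakTri_nonempty_shift_iso (weakTri_rpush W.ι) n ((DCoh.restrictD W.ι).obj E)
  refine Helper5.Gen.isIso_app_of_iso _ e ?_
  have hEW : DCoh.IsQCohD (((DCoh.restrictD W.ι).obj E)⟦n⟧) :=
    isQCohD_shift _ (isQCohD_restrictD W E hE) n
  haveI : IsAffine (W : Scheme.{u}) := hW
  haveI : QuasiCompact W.ι := inferInstance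
  haveI : QuasiCompact (g' ⁻¹ᵁ W).ι :=
    MorphismProperty.of_isPullback (isPullback_rho g' W) inferInstance
  apply isIso_tau_rpush_of hsq W L
  · obtain ⟨G, hG, hfl, ⟨eL⟩⟩ := goodTw_open W hL
    haveI := hG
    exact isIso_tau_of_affine G hfl (isPullback_big hsq W) (fL W.ι L) eL _ hEW
  · exact isIso_theta_of_flat_left (isPullback_rho g' W) _ hEW
  · exact isIso_pf_app W.ι L (goodTw_isQCohD hL) _ hEW
  · exact isIso_pf_app (g' ⁻¹ᵁ W).ι (fL g' L) (goodTw_pullback_isQCohD g' hL) _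
      (isQCohD_Lpull _ _ hEW)

/-- **twisted base change**: for `f` quasi-compact and quasi-separated, `E ∈ D_QCoh(X)` and `L` a
quasi-coherent module flat over the base, the canonical map
`Lg^* Rf_* (E ⊗^L L) ⟶ Rf'_* (Lg'^* E ⊗^L g'^* L)` is an isomorphism -/
theorem isIso_tau (hsq : IsPullback g' f' f g) [QuasiCompact f] [QuasiSeparated f]
    (L : CochainComplex X.Modules ℤ) (hL : GoodTw f L) (E : DCoh.D X) (hE : DCoh.IsQCohD E) :
    IsIso ((tau hsq.w L).app E) := by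
  apply isIso_tau_of_local hsq L E
  intro y'
  obtain ⟨U, hU, U', hU', hy', hle⟩ := exists_affine_nbhds g y'
  refine ⟨U, U', hle, hy', ?_⟩
  haveI : IsAffine (U : Scheme.{u}) := hU
  haveI : IsAffine (U' : Scheme.{u}) := hU'
  haveI : CompactSpace ((f ⁻¹ᵁ U : X.Opens) : Scheme.{u}) :=
    isCompact_iff_compactSpace.mp (f.isCompact_preimage hU.isCompact)
  haveI : QuasiSeparatedSpace ((f ⁻¹ᵁ U : X.Opens) : Scheme.{u}) :=
    quasiSeparatedSpace_of_quasiSeparated (f ∣_ U)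
  exact isIso_tau_of_affine_base (isPullback_restrict hsq U U' hle) (fL (f ⁻¹ᵁ U).ι L)
    (goodTw_restrict U hL) _ (isQCohD_Lpull _ _ hE)

/-- **the object form**, for a module -/
theorem nonempty_baseChange_ltensorMod_iso (hsq : IsPullback g' f' f g) [QuasiCompact f]
    [QuasiSeparated f] (E : DCoh.D X) (hE : DCoh.IsQCohD E) (G : X.Modules) [G.IsQuasicoherent]
    (hfl : FlatMod.IsFlatOver f G) [DCoh.HasLTensorMod G]
    [DCoh.HasLTensorMod ((Scheme.Modules.pullback g').obj G)] :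
    Nonempty ((DCoh.Lpull g).obj ((DCoh.Rpush f).obj ((DCoh.LTensorMod G).obj E)) ≅
      (DCoh.Rpush f').obj ((DCoh.LTensorMod ((Scheme.Modules.pullback g').obj G)).obj
        ((DCoh.Lpull g').obj E))) := by
  haveI := isIso_tau hsq (sCx G) ⟨G, inferInstance, hfl, ⟨Iso.refl _⟩⟩ E hE
  obtain ⟨e1⟩ := nonempty_ltensorMod_iso G E
  obtain ⟨e2⟩ := nonempty_ltensorMod_iso ((Scheme.Modules.pullback g').obj G)
    ((DCoh.Lpull g').obj E)
  exact ⟨(DCoh.Lpull g).mapIso ((DCoh.Rpush f).mapIso e1) ≪≫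
    asIso ((tau hsq.w (sCx G)).app E) ≪≫
    (DCoh.Rpush f').mapIso (((ltenIso (pCsCxIso g' G)).app ((DCoh.Lpull g').obj E)) ≪≫ e2.symm)⟩

end Groth.Agent.Lib.Helper5.TwBC
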